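import Cfsg.Agent.Lib.KnownSimple.AEight.Code
import Cfsg.Agent.Lib.PCore.Basic
import Cfsg.Agent.Lib.Characters.Burnside

/-!
Subgroups of `Alt 8` without nontrivial normal subgroups of prime power order.
-/

set_option autoImplicit false

namespace CfsgLib.KnownSimple.AEight

open Equiv Equiv.Perm
open scoped commutatorElement

local notation "S8" => Equiv.Perm (Fin 8)

/-- An even subgroup with trivial `p`-cores. -/
structure Good (H : Subgroup (Equiv.Perm (Fin 8))) : Prop where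
  le_alt : H ≤ alternatingGroup (Fin 8)
  ne_bot : H ≠ ⊥
  core : ∀ p : ℕ, p.Prime → ∀ N : Subgroup H, N.Normal → IsPGroup p N → N = ⊥

theorem Good.sign {H : Subgroup S8} (hH : Good H) {σ : S8} (hσ : σ ∈ H) :
    Equiv.Perm.sign σ = 1 := mem_alternatingGroup.1 (hH.le_alt hσ)

theorem Good.map_conj {H : Subgroup S8} (hH : Good H) (g : S8) :
    Good (H.map (MulAut.conj g).toMonoidHom) := by
  have e := H.equivMapOfInjective (MulAut.conj g).toMonoidHom (MulAut.conj g).injective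
  refine ⟨?_, ?_, ?_⟩
  · rintro _ ⟨σ, hσ, rfl⟩
    simp [mem_alternatingGroup, hH.sign hσ]
  · intro h
    refine hH.ne_bot ?_
    rw [Subgroup.map_eq_bot_iff_of_injective _ (MulAut.conj g).injective] at h
    exact h
  · intro p hp N hN hpN
    have h := hH.core p hp (N.comap e.toMonoidHom) (hN.comap _) ?_
    · refine Subgroup.comap_injective (f := e.toMonoidHom) e.surjective ?_
      rw [h, MonoidHom.comap_bot, (MonoidHom.ker_eq_bot_iff _).2 e.injective]
    · exact hpN.comap_of_injective _ e.injective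

/-- The trivial cores at two give all trivial cores. -/
theorem good_of_cores {H : Subgroup S8} (hle : H ≤ alternatingGroup (Fin 8)) (hne : H ≠ ⊥)
    (h2 : Cfsg.pCore 2 H = ⊥) (h2' : Cfsg.pPrimeCore 2 H = ⊥) : Good H := by
  refine ⟨hle, hne, fun p hp N hN hpN => ?_⟩
  rw [eq_bot_iff]
  by_cases h : p = 2
  · subst h
    exact h2 ▸ CfsgLib.PCore.le_pCore hN hpN
  · refine h2' ▸ CfsgLib.PCore.le_pPrimeCore hN ?_
    have : Fact p.Prime := ⟨hp⟩
    obtain ⟨k, hk⟩ := IsPGroup.iff_card.1 hpN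
    rw [hk]
    exact ((Nat.coprime_primes hp Nat.prime_two).2 h).pow_left k

theorem card_alt_eight : Nat.card (alternatingGroup (Fin 8)) = 20160 := by
  rw [nat_card_alternatingGroup]
  simp [Nat.card_eq_fintype_card, Nat.factorial]

theorem exists_commutative_normal {G : Type*} [Group G] [Nontrivial G] (hs : Group.IsSolvable G) :
    ∃ A : Subgroup G, A.Normal ∧ A ≠ ⊥ ∧ ∀ a ∈ A, ∀ b ∈ A, a * b = b * a := by
  classical
  obtain ⟨n, hn⟩ := hs.solvable
  obtain ⟨k, hk, hk'⟩ : ∃ k, derivedSeries G k ≠ ⊥ ∧ derivedSeries G (k + 1) = ⊥ := by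
    induction n with
    | zero => exact absurd hn (by simp [derivedSeries_zero])
    | succ n ih =>
      by_cases h : derivedSeries G n = ⊥
      · exact ih h
      · exact ⟨n, h, hn⟩
  refine ⟨derivedSeries G k, derivedSeries_normal G k, hk, fun a ha b hb => ?_⟩
  have hab : ⁅a, b⁆ ∈ derivedSeries G (k + 1) := Subgroup.commutator_mem_commutator ha hb
  rw [hk', Subgroup.mem_bot] at hab
  exact commutatorElement_eq_one_iff_mul_comm.1 hab

theorem Good.five_or_seven_dvd {H : Subgroup S8} (hH : Good H) :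
    5 ∣ Nat.card H ∨ 7 ∣ Nat.card H := by
  by_contra hc
  rw [not_or] at hc
  have hdvd : Nat.card H ∣ 2 ^ 6 * 3 ^ 2 := by
    have h1 : Nat.card H ∣ 2 ^ 6 * 3 ^ 2 * (5 * 7) := by
      have := Subgroup.card_dvd_of_le hH.le_alt
      rwa [card_alt_eight] at this
    refine Nat.Coprime.dvd_of_dvd_mul_right ?_ h1
    exact Nat.Coprime.mul_right ((Nat.Prime.coprime_iff_not_dvd (by norm_num)).2 hc.1).symm
      ((Nat.Prime.coprime_iff_not_dvd (by norm_num)).2 hc.2).symm
  obtain ⟨k1, k2, hk1, hk2, hk⟩ := exists_dvd_and_dvd_of_dvd_mul hdvd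
  obtain ⟨a, -, rfl⟩ := (Nat.dvd_prime_pow Nat.prime_two).1 hk1
  obtain ⟨b, -, rfl⟩ := (Nat.dvd_prime_pow Nat.prime_three).1 hk2
  have hs := CfsgLib.Burnside.isSolvable_of_card_eq Nat.prime_two Nat.prime_three a b hk
  have : Nontrivial H := (Subgroup.nontrivial_iff_ne_bot H).2 hH.ne_bot
  obtain ⟨A, hA, hA1, hcomm⟩ := exists_commutative_normal (G := H) hs
  have hA1' : Nat.card A ≠ 1 := fun h => hA1 (Subgroup.card_eq_one.1 h)
  obtain ⟨p, hp, hpA⟩ := Nat.exists_prime_and_dvd hA1'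
  have : Fact p.Prime := ⟨hp⟩
  obtain ⟨P⟩ := Sylow.nonempty (p := p) (G := A)
  have hPn : (P : Subgroup A).Normal := ⟨fun x hx g => by
    have : g * x = x * g := Subtype.ext (hcomm g g.2 x x.2)
    rwa [this, mul_inv_cancel_right]⟩
  have := P.characteristic_of_normal hPn
  have hP := hH.core p hp ((P : Subgroup A).map A.subtype)
    (ConjAct.normal_of_characteristic_of_normal) (P.isPGroup'.map _)
  rw [Subgroup.map_eq_bot_iff_of_injective _ A.subtype_injective] at hP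
  exact P.ne_bot_of_dvd_card hpA hP

theorem exists_conj_of_isConj {H : Subgroup S8} {σ x : S8} (hσ : σ ∈ H) (h : IsConj σ x) :
    ∃ g : S8, x ∈ H.map (MulAut.conj g).toMonoidHom := by
  obtain ⟨g, hg⟩ := isConj_iff.1 h
  exact ⟨g, σ, hσ, hg⟩

theorem cycleType_of_orderOf {σ : S8} {p : ℕ} (hp : p.Prime) (h5 : 5 ≤ p) (hσ : orderOf σ = p) :
    σ.cycleType = {p} := by
  obtain ⟨n, hn⟩ := Equiv.Perm.cycleType_prime_order (hσ ▸ hp)
  have hsum := σ.sum_cycleType
  have hle : σ.support.card ≤ 8 := (Finset.card_le_univ _).trans (by simp)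
  rw [hn, Multiset.sum_replicate, smul_eq_mul, hσ] at hsum
  have : n = 0 := by
    rcases n with _ | n
    · rfl
    · nlinarith
  subst this
  rw [hn, hσ]
  rfl

theorem isConj_of_orderOf {σ x : S8} {p : ℕ} (hp : p.Prime) (h5 : 5 ≤ p) (hσ : orderOf σ = p)
    (hx : orderOf x = p) : IsConj σ x :=
  Equiv.Perm.isConj_iff_cycleType_eq.2 (by rw [cycleType_of_orderOf hp h5 hσ, cycleType_of_orderOf hp h5 hx])

/-- The permutations generating the same group as a coded one from a list. -/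
def Std (Y : List (List ℕ)) : Set (Equiv.Perm (Fin 8)) :=
  {σ | ∃ τ, code τ ∈ Y.flatten ∧ Subgroup.zpowers σ = Subgroup.zpowers τ}

theorem zpowers_eq_of_pow {τ σ : S8} {n e : ℕ} (hn : n.Prime) (hτ : τ ^ n = 1) (h : σ = τ ^ e)
    (hσ : σ ≠ 1) : Subgroup.zpowers σ = Subgroup.zpowers τ := by
  have : Fact n.Prime := ⟨hn⟩
  have hτ1 : τ ≠ 1 := by
    rintro rfl
    simp [h] at hσ
  have hσn : σ ^ n = 1 := by rw [h, ← pow_mul, mul_comm, pow_mul, hτ, one_pow]
  refine Subgroup.eq_of_le_of_card_ge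
    (Subgroup.zpowers_le.2 (h ▸ Subgroup.npow_mem_zpowers τ e)) ?_
  rw [Nat.card_zpowers, Nat.card_zpowers, orderOf_eq_prime hσn hσ, orderOf_eq_prime hτ hτ1]

theorem std_closed {Y : List (List ℕ)} {n : ℕ} (hn : n.Prime)
    (hY : ∀ y ∈ Y.flatten, cpow y n = cone ∧ y ≠ cone) (g : S8)
    (hg : ∀ τ : S8, code τ ∈ Y.flatten → ∃ k e : ℕ, code (g * τ * g⁻¹) = cpow (look2 Y k) e)
    (hperm : ∀ y ∈ Y.flatten, ∃ τ : S8, code τ = y) :
    ∀ σ ∈ Std Y, g * σ * g⁻¹ ∈ Std Y := by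
  rintro σ ⟨τ, hτY, hz⟩
  obtain ⟨k, e, hke⟩ := hg τ hτY
  have hτ1 : g * τ * g⁻¹ ≠ 1 := by
    intro h
    rw [conj_eq_one_iff] at h
    exact (hY _ hτY).2 (by rw [h, code_one])
  rcases look2_mem Y k with hk | hk
  · obtain ⟨τ', hτ'⟩ := hperm _ hk
    refine ⟨τ', hτ' ▸ hk, ?_⟩
    rw [← hτ', ← code_pow] at hke
    have hpow := code_injective hke
    rw [← zpowers_eq_of_pow hn (code_injective (by rw [code_pow, hτ', (hY _ hk).1, code_one]))
      hpow hτ1]
    have := congrArg (Subgroup.map (MulAut.conj g).toMonoidHom) hz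
    rwa [MonoidHom.map_zpowers, MonoidHom.map_zpowers] at this
  · rw [hk, ← code_one, ← code_pow, one_pow] at hke
    exact absurd (code_injective hke) hτ1

theorem std_conj {Y : List (List ℕ)}
    (h1 : ∀ σ ∈ Std Y, Equiv.swap 0 1 * σ * (Equiv.swap 0 1)⁻¹ ∈ Std Y)
    (h2 : ∀ σ ∈ Std Y, finRotate 8 * σ * (finRotate 8)⁻¹ ∈ Std Y) (g : S8) :
    ∀ σ ∈ Std Y, g * σ * g⁻¹ ∈ Std Y := by
  have htop : Subgroup.closure {finRotate 8, Equiv.swap (0 : Fin 8) (finRotate 8 0)} = ⊤ :=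
    Equiv.Perm.closure_cycle_adjacent_swap (isCycle_finRotate (n := 6)) support_finRotate 0
  have hg : g ∈ Submonoid.closure ({finRotate 8, Equiv.swap (0 : Fin 8) (finRotate 8 0)} : Set S8) := by
    rw [← Subgroup.closure_toSubmonoid_of_finite, htop]
    trivial
  induction hg using Submonoid.closure_induction with
  | mem x hx =>
    rcases hx with rfl | rfl
    · exact h2
    · rw [show finRotate 8 0 = 1 by decide]
      exact h1
  | one => simp
  | mul x y _ _ hx hy =>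
    intro σ hσ
    have := hx _ (hy σ hσ)
    simpa [mul_assoc] using this

/-- The possible isomorphism types. -/
def IsListed (G : Type*) [Group G] : Prop :=
  (∃ n : ℕ, 5 ≤ n ∧ n ≤ 8 ∧ Nonempty (G ≃* alternatingGroup (Fin n))) ∨
    Nonempty (G ≃* Equiv.Perm (Fin 5)) ∨ Nonempty (G ≃* Equiv.Perm (Fin 6)) ∨
    Nonempty (G ≃* GL (Fin 3) (ZMod 2))

theorem IsListed.congr {G K : Type*} [Group G] [Group K] (e : G ≃* K) (h : IsListed K) :
    IsListed G := by
  rcases h with ⟨n, h1, h2, ⟨f⟩⟩ | ⟨⟨f⟩⟩ | ⟨⟨f⟩⟩ | ⟨⟨f⟩⟩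
  · exact Or.inl ⟨n, h1, h2, ⟨e.trans f⟩⟩
  · exact Or.inr (Or.inl ⟨e.trans f⟩)
  · exact Or.inr (Or.inr (Or.inl ⟨e.trans f⟩))
  · exact Or.inr (Or.inr (Or.inr ⟨e.trans f⟩))

/-- A subgroup containing the even permutations is even or everything. -/
theorem eq_alt_or_top {α : Type*} [Fintype α] [DecidableEq α] {R : Subgroup (Equiv.Perm α)}
    (h : alternatingGroup α ≤ R) : R = alternatingGroup α ∨ R = ⊤ := by
  by_cases h' : R ≤ alternatingGroup α
  · exact Or.inl (le_antisymm h' h)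
  · obtain ⟨r, hr, hr'⟩ := SetLike.not_le_iff_exists.1 h'
    refine Or.inr (eq_top_iff.2 fun g _ => ?_)
    rcases Int.units_eq_one_or (Equiv.Perm.sign g) with hg | hg
    · exact h (mem_alternatingGroup.2 hg)
    · have hr1 : Equiv.Perm.sign r = -1 :=
        (Int.units_eq_one_or _).resolve_left fun e => hr' (mem_alternatingGroup.2 e)
      have : g * r ∈ R := h (mem_alternatingGroup.2 (by simp [hg, hr1]))
      simpa using R.mul_mem this (R.inv_mem hr)

end CfsgLib.KnownSimple.AEight
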