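import Cfsg.Agent.Lib.KnownSimple.AEight.Code
import Cfsg.Agent.Lib.KnownSimple.AEight.Data5

/-!
Kernel checks of the order five certificates.
-/

set_option autoImplicit false

namespace CfsgLib.KnownSimple.AEight

def cx5 : ℕ := 16419025

/-- The code of the three-cycle `swap 0 1 * swap 1 s`. -/
def star (s : ℕ) : ℕ := code (Equiv.swap 0 1 * Equiv.swap 1 (Fin.ofNat 8 s))

def closeCheck5 (y : ℕ) (r : ℕ × ℕ × ℕ × ℕ) : Bool :=
  cmul (cmul 16434817 y) 16434817 == cpow (look2 y5 r.1) r.2.1 &&
    cmul (cmul 2054353 y) 14038087 == cpow (look2 y5 r.2.2.1) r.2.2.2 &&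
    cpow y 5 == cone && Nat.ble 1 r.2.1 && Nat.ble r.2.1 4 && Nat.ble 1 r.2.2.2 && Nat.ble r.2.2.2 4 &&
    Nat.ble r.1 335 && Nat.ble r.2.2.1 335

theorem close5_ok : all2 (all2 closeCheck5) y5 close5 = true := by decide +kernel

theorem perm5_ok : (y5.flatten.all fun y => isPermCode y && Nat.blt y 16777216 && cpow y 5 == cone && y != cone) = true := by
  decide +kernel

theorem x5Idx_ok : (cpow (look2 y5 x5Idx.1) x5Idx.2 == cx5 && Nat.ble x5Idx.1 335) = true := by
  decide +kernel

def starCheck5 (y : ℕ) (r : List (ℕ × ℕ)) : Bool :=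
  ((List.range 8).all fun i => Nat.ble i 1 || (dig y i == i && Nat.ble 5 i) || r.any (fun e => e.1 == i)) &&
    r.all (fun e => evalW [cx5, star 2, y] 16 e.2 == star e.1)

theorem star5_ok : all2 (all2 starCheck5) y5 star5 = true := by decide +kernel

def partner5 (j : ℕ) : ℕ :=
  if j == 0 then partner5_0 else if j == 1 then partner5_1 else partner5_2

def core5W (j : ℕ) : List (ℕ × ℕ) :=
  if j == 0 then coreGens0 else if j == 1 then coreGens1 else coreGens2

def core5 (j : ℕ) : List ℕ := (core5W j).map Prod.fst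

def norm5Table (j : ℕ) : List (ℕ × ℕ) :=
  if j == 0 then norm5Table0 else if j == 1 then norm5Table1 else norm5Table2

def pairCheck5 (y : ℕ) (r : ℕ × ℕ × ℕ) : Bool :=
  (r.1 == 0 && y == cpow cx5 r.2.1) ||
  (r.1 == 1 && evalW [cx5, y] 16 r.2.2 == star 2) ||
  (r.1 == 2 && Nat.ble r.2.1 2 && evalW [cx5, y] 16 r.2.2 == partner5 r.2.1)

theorem pair5_ok : all2 (all2 pairCheck5) y5 pair5 = true := by decide +kernel

def tripCheck5 (j : ℕ) (z : ℕ) (r : ℕ × ℕ) : Bool :=
  (r.1 == 0 && (core5 j).contains z) ||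
  (r.1 == 1 && evalW [cx5, partner5 j, z] 16 r.2 == star 2)

theorem trip5_0_ok : all2 (all2 (tripCheck5 0)) y5 trip5_0 = true := by decide +kernel

theorem trip5_1_ok : all2 (all2 (tripCheck5 1)) y5 trip5_1 = true := by decide +kernel

theorem trip5_2_ok : all2 (all2 (tripCheck5 2)) y5 trip5_2 = true := by decide +kernel

theorem coreGens_ok : ([0, 1, 2].all fun j =>
    (core5W j).all fun e => evalW [cx5, partner5 j] 24 e.2 == e.1) = true := by decide +kernel

/-- Composition of codes of permutations of five points in base `5`. -/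
def mul5 (a b : ℕ) : ℕ :=
  let d := fun c i => c / 5 ^ i % 5
  d a (d b 0) + 5 * d a (d b 1) + 25 * d a (d b 2) + 125 * d a (d b 3) + 625 * d a (d b 4)

def even5 (c : ℕ) : Bool :=
  (((List.range 5).map fun i => ((List.range 5).filter fun j =>
    Nat.blt i j && Nat.blt (c / 5 ^ j % 5) (c / 5 ^ i % 5)).length).sum % 2) == 0

def one5 : ℕ := 2930

def swap5 : ℕ := 2926

def rot5 : ℕ := 586

def evalW5 : ℕ → ℕ → ℕ
  | 0, _ => one5
  | fuel + 1, w => if w == 0 then one5 else mul5 ([swap5, rot5].getD (w % 8 - 1) one5) (evalW5 fuel (w / 8))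

def sym5Im (j g : ℕ) : ℕ := ((norm5Table j).lookup g).getD cone

def norm5 (j : ℕ) : List ℕ := (norm5Table j).map Prod.snd

theorem sym5Table_ok : ([0, 1, 2].all fun j => sym5Im j one5 == cone &&
    (sym5Words.all fun e =>
      evalW5 24 e.2 == e.1 &&
      sym5Im j (mul5 e.1 swap5) == cmul (sym5Im j e.1) (sym5Im j swap5) &&
      sym5Im j (mul5 e.1 rot5) == cmul (sym5Im j e.1) (sym5Im j rot5) &&
      (norm5 j).contains (sym5Im j e.1) && (e.1 == one5 || sym5Im j e.1 != cone) &&
      (!(even5 e.1) || (core5 j).contains (sym5Im j e.1))) &&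
    ((core5 j).all fun c => sym5Words.any fun e => even5 e.1 && sym5Im j e.1 == c) &&
    ((norm5 j).all fun c => sym5Words.any fun e => sym5Im j e.1 == c)) = true := by decide +kernel

/-- A candidate normalising permutation. -/
def cand5 (xp a0 f g k : ℕ) : ℕ :=
  a0 + 8 * dig xp a0 + 64 * dig xp (dig xp a0) + 512 * dig xp (dig xp (dig xp a0)) +
    4096 * dig xp (dig xp (dig xp (dig xp a0))) + 32768 * f + 262144 * g + 2097152 * k

theorem norm5_ok : ([0, 1, 2].all fun j => (core5 j).all fun xp =>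
    (cpow xp 5 != cone || xp == cone) ||
      (let fs := (List.range 8).filter fun f => dig xp f == f
       let ms := (List.range 8).filter fun f => !(dig xp f == f)
       ms.all fun a0 => fs.all fun f => fs.all fun g => fs.all fun k =>
        f == g || g == k || f == k || !(evenCode (cand5 xp a0 f g k)) ||
          !((core5 j).any fun c =>
              cmul (cand5 xp a0 f g k) (partner5 j) == cmul c (cand5 xp a0 f g k)) ||
          (norm5 j).contains (cand5 xp a0 f g k))) = true := by decide +kernel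

end CfsgLib.KnownSimple.AEight
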