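import Cfsg.Agent.Lib.KnownSimple.AEight.Code
import Cfsg.Agent.Lib.KnownSimple.AEight.Data7

/-!
Kernel checks of the order seven certificates.
-/

set_option autoImplicit false

namespace CfsgLib.KnownSimple.AEight

def cx7 : ℕ := 14899409

def cswap : ℕ := 16434817

def crot : ℕ := 2054353

def crotInv : ℕ := 14038087

def cconj (g gi y : ℕ) : ℕ := cmul (cmul g y) gi

def closeCheck7 (y : ℕ) (r : ℕ × ℕ × ℕ × ℕ) : Bool :=
  cconj cswap cswap y == cpow (look2 y7 r.1) r.2.1 &&
    cconj crot crotInv y == cpow (look2 y7 r.2.2.1) r.2.2.2 &&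
    cpow y 7 == cone && Nat.ble 1 r.2.1 && Nat.ble r.2.1 6 && Nat.ble 1 r.2.2.2 && Nat.ble r.2.2.2 6 &&
    Nat.ble r.1 959 && Nat.ble r.2.2.1 959

theorem close7_ok : all2 (all2 closeCheck7) y7 close7 = true := by decide +kernel

theorem perm7_ok : (y7.flatten.all fun y => isPermCode y && Nat.blt y 16777216 && cpow y 7 == cone && y != cone) = true := by
  decide +kernel

theorem x7Idx_ok : (cpow (look2 y7 x7Idx.1) x7Idx.2 == cx7 && Nat.ble x7Idx.1 959) = true := by
  decide +kernel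

def fourList (j : ℕ) : List ℕ := if j == 0 then four0 else four1

def fourGens (j : ℕ) : List ℕ := if j == 0 then fourGens0 else fourGens1

def partner7 (j : ℕ) : ℕ :=
  if j == 0 then partner7_0 else if j == 1 then partner7_1 else partner7_2

def coreW (j : ℕ) : List (ℕ × ℕ) :=
  if j == 0 then coreWords0 else if j == 1 then coreWords1 else coreWords2

def coreList (j : ℕ) : List ℕ := (coreW j).map Prod.fst

def gl3Table (j : ℕ) : List (ℕ × ℕ) :=
  if j == 0 then gl3Table0 else if j == 1 then gl3Table1 else gl3Table2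

def pairCheck7 (y : ℕ) (r : ℕ × ℕ × ℕ × ℕ × ℕ) : Bool :=
  (r.1 == 0 && y == cpow cx7 r.2.1) ||
  (r.1 == 1 && isFive (evalW [cx7, y] 16 r.2.2.1)) ||
  (r.1 == 2 && Nat.ble r.2.1 2 && evalW [cx7, y] 16 r.2.2.1 == partner7 r.2.1) ||
  (r.1 == 3 && Nat.ble r.2.1 1 &&
    [evalW [cx7, y] 16 r.2.2.1, evalW [cx7, y] 16 r.2.2.2.1, evalW [cx7, y] 16 r.2.2.2.2] == fourGens r.2.1)

theorem pair7_ok : all2 (all2 pairCheck7) y7 pair7 = true := by decide +kernel

def fourCheck (j : ℕ) (z : ℕ) (r : ℕ × ℕ) : Bool :=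
  (r.1 == 0 && (fourGens j).all (fun v => (fourList j).contains (cmul (cmul z v) (cpow z 6)))) ||
  (r.1 == 1 && isFive (evalW (cx7 :: (fourGens j ++ [z])) 16 r.2))

theorem fourTrip0_ok : all2 (all2 (fourCheck 0)) y7 fourTrip0 = true := by decide +kernel

theorem fourTrip1_ok : all2 (all2 (fourCheck 1)) y7 fourTrip1 = true := by decide +kernel

end CfsgLib.KnownSimple.AEight
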