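import Cfsg.Agent.Lib.KnownSimple.AEight.Check7

/-!
Kernel checks of the order seven certificates, second part.
-/

set_option autoImplicit false

namespace CfsgLib.KnownSimple.AEight

def tripCheck7 (j : ℕ) (z : ℕ) (r : ℕ × ℕ × ℕ × ℕ × ℕ) : Bool :=
  (r.1 == 0 && (coreList j).contains z) ||
  (r.1 == 1 && isFive (evalW [cx7, partner7 j, z] 16 r.2.2.1)) ||
  (r.1 == 3 && Nat.ble r.2.1 1 &&
    [evalW [cx7, partner7 j, z] 16 r.2.2.1, evalW [cx7, partner7 j, z] 16 r.2.2.2.1,
      evalW [cx7, partner7 j, z] 16 r.2.2.2.2] == fourGens r.2.1)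

theorem trip7_0_ok : all2 (all2 (tripCheck7 0)) y7 trip7_0 = true := by decide +kernel

theorem trip7_1_ok : all2 (all2 (tripCheck7 1)) y7 trip7_1 = true := by decide +kernel

theorem trip7_2_ok : all2 (all2 (tripCheck7 2)) y7 trip7_2 = true := by decide +kernel

/-- The four group is an elementary abelian group containing the generators. -/
theorem four_ok : ([0, 1].all fun j =>
    (fourList j).contains cone && (fourGens j).all (fun v => (fourList j).contains v) &&
    (fourList j).all (fun a => cmul a a == cone) &&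
    (fourList j).all (fun a => (fourList j).all fun b => (fourList j).contains (cmul a b)) &&
    ((List.range 8).all fun k =>
      (fourList j).contains (cmul (cmul (if k % 2 == 1 then (fourGens j).getD 0 cone else cone)
        (if k / 2 % 2 == 1 then (fourGens j).getD 1 cone else cone))
        (if k / 4 % 2 == 1 then (fourGens j).getD 2 cone else cone))) &&
    ((fourList j).all fun a => (List.range 8).any fun k =>
      a == cmul (cmul (if k % 2 == 1 then (fourGens j).getD 0 cone else cone)
        (if k / 2 % 2 == 1 then (fourGens j).getD 1 cone else cone))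
        (if k / 4 % 2 == 1 then (fourGens j).getD 2 cone else cone))) = true := by decide +kernel

theorem coreWords_ok : ([0, 1, 2].all fun j =>
    (coreW j).all fun e => evalW [cx7, partner7 j] 24 e.2 == e.1) = true := by decide +kernel

/-- A candidate normalising permutation. -/
def cand7 (xp a0 f : ℕ) : ℕ :=
  a0 + 8 * dig xp a0 + 64 * dig xp (dig xp a0) + 512 * dig xp (dig xp (dig xp a0)) +
    4096 * dig xp (dig xp (dig xp (dig xp a0))) +
    32768 * dig xp (dig xp (dig xp (dig xp (dig xp a0)))) +
    262144 * dig xp (dig xp (dig xp (dig xp (dig xp (dig xp a0))))) + 2097152 * f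

theorem norm7_ok : ([0, 1, 2].all fun j => (coreList j).all fun xp =>
    (cpow xp 7 != cone || xp == cone) || (List.range 8).all fun a0 => (List.range 8).all fun f =>
      !(dig xp f == f && isPermCode (cand7 xp a0 f) && evenCode (cand7 xp a0 f)) ||
        (coreList j).contains (cand7 xp a0 f)) = true := by decide +kernel

/-- Product of `3 × 3` matrices over `ZMod 2` coded by their bits. -/
def bmul (a b : ℕ) : ℕ :=
  ((List.range 3).map fun i => ((List.range 3).map fun j =>
    ((((List.range 3).map fun k => (a / 2 ^ (3 * i + k) % 2) * (b / 2 ^ (3 * k + j) % 2)).sum) % 2) *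
      2 ^ (3 * i + j)).sum).sum

def bdet (c : ℕ) : ℕ :=
  let e := fun i j => c / 2 ^ (3 * i + j) % 2
  (e 0 0 * (e 1 1 * e 2 2 + e 1 2 * e 2 1) + e 0 1 * (e 1 0 * e 2 2 + e 1 2 * e 2 0) +
    e 0 2 * (e 1 0 * e 2 1 + e 1 1 * e 2 0)) % 2

def gl3Im (j g : ℕ) : ℕ := ((gl3Table j).lookup g).getD cone

def bevalW : ℕ → ℕ → ℕ
  | 0, _ => 273
  | fuel + 1, w => if w == 0 then 273 else bmul ([gl3GenA, gl3GenB].getD (w % 8 - 1) 273) (bevalW fuel (w / 8))

theorem gl3Words_ok : ((List.range 512).all fun c => bdet c == 0 ||
    (bevalW 24 ((gl3Words.lookup c).getD 0) == c && bdet c == 1)) = true := by decide +kernel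

theorem gl3Table_ok : ([0, 1, 2].all fun j => gl3Im j 273 == cone &&
    (gl3Words.all fun e =>
      gl3Im j (bmul e.1 gl3GenA) == cmul (gl3Im j e.1) (gl3Im j gl3GenA) &&
      gl3Im j (bmul e.1 gl3GenB) == cmul (gl3Im j e.1) (gl3Im j gl3GenB) &&
      (coreList j).contains (gl3Im j e.1) && (e.1 == 273 || gl3Im j e.1 != cone)) &&
    (coreList j).all fun c => gl3Words.any fun e => gl3Im j e.1 == c) = true := by decide +kernel

theorem gl3Mem_ok : ((List.range 512).all fun c => bdet c == 0 || gl3Words.any fun e => e.1 == c) = true := by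
  decide +kernel

end CfsgLib.KnownSimple.AEight
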