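import Mathlib

/-!
Permutations of `Fin 8` coded as natural numbers in base `8`.
-/

set_option autoImplicit false

namespace CfsgLib.KnownSimple.AEight

/-- The code of a permutation. -/
def code (σ : Equiv.Perm (Fin 8)) : ℕ :=
  (σ 0).val + 8 * (σ 1).val + 64 * (σ 2).val + 512 * (σ 3).val + 4096 * (σ 4).val +
    32768 * (σ 5).val + 262144 * (σ 6).val + 2097152 * (σ 7).val

/-- Digit `i`. -/
def dig (c i : ℕ) : ℕ := c / 8 ^ i % 8

/-- Composition of codes. -/
def cmul (a b : ℕ) : ℕ :=
  dig a (dig b 0) + 8 * dig a (dig b 1) + 64 * dig a (dig b 2) + 512 * dig a (dig b 3) +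
    4096 * dig a (dig b 4) + 32768 * dig a (dig b 5) + 262144 * dig a (dig b 6) +
    2097152 * dig a (dig b 7)

/-- The code of the identity. -/
def cone : ℕ := 16434824

/-- Powers of codes. -/
def cpow (a : ℕ) : ℕ → ℕ
  | 0 => cone
  | n + 1 => cmul a (cpow a n)

/-- Evaluates a word, coded in base `8` with letters shifted by one. -/
def evalW (gens : List ℕ) : ℕ → ℕ → ℕ
  | 0, _ => cone
  | fuel + 1, w => if w == 0 then cone else cmul (gens.getD (w % 8 - 1) cone) (evalW gens fuel (w / 8))

/-- A word has order five. -/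
def isFive (c : ℕ) : Bool := c != cone && cpow c 5 == cone

/-- Pointwise check of two lists of equal length. -/
def all2 {α β : Type} (p : α → β → Bool) : List α → List β → Bool
  | [], [] => true
  | a :: as, b :: bs => p a b && all2 p as bs
  | [], _ :: _ => false
  | _ :: _, [] => false

theorem all2_spec {α β : Type} {p : α → β → Bool} :
    ∀ {as : List α} {bs : List β}, all2 p as bs = true → ∀ a ∈ as, ∃ b ∈ bs, p a b = true
  | [], _, _, a, ha => absurd ha List.not_mem_nil
  | x :: as, y :: bs, h, a, ha => by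
    simp only [all2, Bool.and_eq_true] at h
    rcases List.mem_cons.1 ha with rfl | ha
    · exact ⟨y, List.mem_cons_self, h.1⟩
    · obtain ⟨b, hb, hp⟩ := all2_spec h.2 a ha
      exact ⟨b, List.mem_cons_of_mem _ hb, hp⟩
  | _ :: _, [], h, _, _ => by simp [all2] at h

theorem all2_spec' {α β : Type} {p : α → β → Bool} {A : List (List α)} {B : List (List β)}
    (h : all2 (all2 p) A B = true) : ∀ a ∈ A.flatten, ∃ b, p a b = true := by
  intro a ha
  obtain ⟨l, hl, hal⟩ := List.mem_flatten.1 ha
  obtain ⟨l', -, hl'⟩ := all2_spec h l hl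
  obtain ⟨b, -, hb⟩ := all2_spec hl' a hal
  exact ⟨b, hb⟩

/-- Indexing a chunked list. -/
def look2 (A : List (List ℕ)) (k : ℕ) : ℕ := (A.getD (k / 60) []).getD (k % 60) cone

theorem dig_code (σ : Equiv.Perm (Fin 8)) (i : Fin 8) : dig (code σ) i.val = (σ i).val := by
  have h0 := (σ 0).isLt; have h1 := (σ 1).isLt; have h2 := (σ 2).isLt; have h3 := (σ 3).isLt
  have h4 := (σ 4).isLt; have h5 := (σ 5).isLt; have h6 := (σ 6).isLt; have h7 := (σ 7).isLt
  fin_cases i <;> simp [dig, code] <;> omega

theorem code_mul (σ τ : Equiv.Perm (Fin 8)) : code (σ * τ) = cmul (code σ) (code τ) := by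
  have h : ∀ i : Fin 8, dig (code σ) (dig (code τ) i.val) = ((σ * τ) i).val := fun i => by
    rw [dig_code, dig_code]; rfl
  have h0 := h 0; have h1 := h 1; have h2 := h 2; have h3 := h 3
  have h4 := h 4; have h5 := h 5; have h6 := h 6; have h7 := h 7
  simp only [Fin.val_zero, Fin.val_one, Fin.val_two] at h0 h1 h2
  unfold cmul
  rw [h0, h1, h2]
  erw [h3, h4, h5, h6, h7]
  rfl

theorem code_one : code 1 = cone := by decide

theorem code_injective : Function.Injective code := by
  intro σ τ h
  refine Equiv.ext fun i => Fin.ext ?_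
  rw [← dig_code σ i, h, dig_code]

theorem code_pow (σ : Equiv.Perm (Fin 8)) : ∀ n : ℕ, code (σ ^ n) = cpow (code σ) n
  | 0 => by rw [pow_zero, code_one]; rfl
  | n + 1 => by rw [pow_succ', code_mul, code_pow σ n]; rfl

/-- `c` is the code of an element of `M`. -/
def CodeIn (M : Subgroup (Equiv.Perm (Fin 8))) (c : ℕ) : Prop := ∃ σ ∈ M, code σ = c

theorem codeIn_one (M : Subgroup (Equiv.Perm (Fin 8))) : CodeIn M cone :=
  ⟨1, M.one_mem, code_one⟩

theorem codeIn_mul {M : Subgroup (Equiv.Perm (Fin 8))} {a b : ℕ} :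
    CodeIn M a → CodeIn M b → CodeIn M (cmul a b) := by
  rintro ⟨σ, hσ, rfl⟩ ⟨τ, hτ, rfl⟩
  exact ⟨σ * τ, M.mul_mem hσ hτ, code_mul σ τ⟩

theorem codeIn_code {M : Subgroup (Equiv.Perm (Fin 8))} {σ : Equiv.Perm (Fin 8)}
    (h : CodeIn M (code σ)) : σ ∈ M := by
  obtain ⟨τ, hτ, h⟩ := h
  rwa [← code_injective h]

theorem codeIn_evalW {M : Subgroup (Equiv.Perm (Fin 8))} {gens : List ℕ}
    (hg : ∀ g ∈ gens, CodeIn M g) : ∀ fuel w, CodeIn M (evalW gens fuel w)
  | 0, _ => codeIn_one M
  | fuel + 1, w => by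
    simp only [evalW]
    split_ifs
    · exact codeIn_one M
    · refine codeIn_mul ?_ (codeIn_evalW hg fuel _)
      rw [List.getD_eq_getElem?_getD]
      cases h : gens[w % 8 - 1]? with
      | none => exact codeIn_one M
      | some g => exact hg g (List.mem_of_getElem? h)

theorem exists_order_five {M : Subgroup (Equiv.Perm (Fin 8))} {c : ℕ} (hc : CodeIn M c)
    (h : isFive c = true) : ∃ σ ∈ M, orderOf σ = 5 := by
  obtain ⟨σ, hσ, rfl⟩ := hc
  have : Fact (Nat.Prime 5) := ⟨by norm_num⟩
  simp only [isFive, Bool.and_eq_true, bne_iff_ne, beq_iff_eq] at h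
  refine ⟨σ, hσ, orderOf_eq_prime ?_ ?_⟩
  · apply code_injective
    rw [code_pow, code_one, h.2]
  · rintro rfl
    exact h.1 code_one

/-- `c` is the code of a permutation. -/
def isPermCode (c : ℕ) : Bool := (List.range 8).all fun v => (List.range 8).any fun i => dig c i == v

/-- The inversion parity of a code. -/
def evenCode (c : ℕ) : Bool :=
  (((List.range 8).map fun i => ((List.range 8).filter fun j => Nat.blt i j && Nat.blt (dig c j) (dig c i)).length).sum % 2) == 0

theorem exists_code {c : ℕ} (h : isPermCode c = true) (hc : c < 16777216) :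
    ∃ σ : Equiv.Perm (Fin 8), code σ = c := by
  let f : Fin 8 → Fin 8 := fun i => ⟨dig c i.val, Nat.mod_lt _ (by norm_num)⟩
  have hf : Function.Surjective f := by
    intro v
    simp only [isPermCode, List.all_eq_true, List.any_eq_true, List.mem_range, beq_iff_eq] at h
    obtain ⟨i, hi, hiv⟩ := h v.val v.isLt
    exact ⟨⟨i, hi⟩, Fin.ext hiv⟩
  refine ⟨Equiv.ofBijective f ⟨Finite.injective_iff_surjective.2 hf, hf⟩, ?_⟩
  simp only [code, Equiv.ofBijective_apply, f, dig, Fin.val_zero, Fin.val_one, Fin.val_two]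
  norm_num
  omega

theorem code_lt (σ : Equiv.Perm (Fin 8)) : code σ < 16777216 := by
  have h0 := (σ 0).isLt; have h1 := (σ 1).isLt; have h2 := (σ 2).isLt; have h3 := (σ 3).isLt
  have h4 := (σ 4).isLt; have h5 := (σ 5).isLt; have h6 := (σ 6).isLt; have h7 := (σ 7).isLt
  unfold code
  omega

theorem isPermCode_code (σ : Equiv.Perm (Fin 8)) : isPermCode (code σ) = true := by
  simp only [isPermCode, List.all_eq_true, List.any_eq_true, List.mem_range, beq_iff_eq]
  intro v hv
  exact ⟨(σ⁻¹ ⟨v, hv⟩).val, Fin.isLt _, by rw [dig_code]; simp⟩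

theorem evenCode_code (σ : Equiv.Perm (Fin 8)) (hσ : Equiv.Perm.sign σ = 1) :
    evenCode (code σ) = true := by
  have hl : ∀ i : Fin 8, ((List.range 8).filter fun j =>
      Nat.blt i.val j && Nat.blt (dig (code σ) j) (dig (code σ) i.val)).length =
      (Finset.univ.filter fun j : Fin 8 => i < j ∧ σ j < σ i).card := by
    intro i
    rw [show List.range 8 = (List.finRange 8).map (fun j : Fin 8 => j.val) by decide,
      List.filter_map, List.length_map,
      ← List.toFinset_card_of_nodup ((List.nodup_finRange 8).filter _)]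
    congr 1
    ext j
    simp [dig_code, Nat.blt]
  have hs : ((List.range 8).map fun i => ((List.range 8).filter fun j =>
      Nat.blt i j && Nat.blt (dig (code σ) j) (dig (code σ) i)).length).sum =
      ∑ i : Fin 8, (Finset.univ.filter fun j : Fin 8 => i < j ∧ σ j < σ i).card := by
    rw [show (List.range 8).map (fun i => ((List.range 8).filter fun j =>
        Nat.blt i j && Nat.blt (dig (code σ) j) (dig (code σ) i)).length) =
      List.ofFn (fun i : Fin 8 => ((List.range 8).filter fun j =>
        Nat.blt i.val j && Nat.blt (dig (code σ) j) (dig (code σ) i.val)).length) from rfl,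
      List.sum_ofFn]
    exact Finset.sum_congr rfl fun i _ => hl i
  have hsign : Equiv.Perm.sign σ =
      (-1) ^ ∑ i : Fin 8, (Finset.univ.filter fun j : Fin 8 => i < j ∧ σ j < σ i).card := by
    rw [Equiv.Perm.sign_eq_prod_prod_Ioi, ← Finset.prod_pow_eq_pow_sum]
    refine Finset.prod_congr rfl fun i _ => ?_
    rw [Finset.prod_ite, Finset.prod_const_one, one_mul, Finset.prod_const]
    congr 2
    ext j
    simp only [Finset.mem_filter, Finset.mem_Ioi, Finset.mem_univ, true_and, not_lt]
    constructor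
    · rintro ⟨hij, hle⟩
      exact ⟨hij, lt_of_le_of_ne hle fun e => hij.ne' (σ.injective e)⟩
    · rintro ⟨hij, hlt⟩
      exact ⟨hij, hlt.le⟩
  simp only [evenCode, hs, beq_iff_eq]
  rcases Nat.mod_two_eq_zero_or_one (∑ i : Fin 8,
      (Finset.univ.filter fun j : Fin 8 => i < j ∧ σ j < σ i).card) with h | h
  · exact h
  · rw [hsign, Odd.neg_one_pow (Nat.odd_iff.2 h)] at hσ
    exact absurd hσ (by decide)

theorem look2_mem (A : List (List ℕ)) (k : ℕ) : look2 A k ∈ A.flatten ∨ look2 A k = cone := by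
  simp only [look2, List.getD_eq_getElem?_getD]
  cases h1 : A[k / 60]? with
  | none => exact Or.inr rfl
  | some l =>
    simp only [Option.getD_some]
    cases h2 : l[k % 60]? with
    | none => exact Or.inr rfl
    | some a => exact Or.inl (List.mem_flatten.2 ⟨l, List.mem_of_getElem? h1, List.mem_of_getElem? h2⟩)

theorem code_conj (g σ : Equiv.Perm (Fin 8)) :
    code (g * σ * g⁻¹) = cmul (cmul (code g) (code σ)) (code g⁻¹) := by
  rw [code_mul, code_mul]

end CfsgLib.KnownSimple.AEight
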