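import Cfsg.Agent.Lib.KnownSimple.AEight.Basic
import Cfsg.Agent.Lib.KnownSimple.AEight.Check5

/-!
Elements of order five in `Alt 8`.
-/

set_option autoImplicit false

namespace CfsgLib.KnownSimple.AEight

open Equiv Equiv.Perm

local notation "S8" => Equiv.Perm (Fin 8)

/-- The standard five-cycle. -/
def fiveCycle : Equiv.Perm (Fin 8) := List.formPerm [0, 1, 2, 3, 4]

theorem code_fiveCycle : code fiveCycle = cx5 := by decide +kernel

theorem orderOf_fiveCycle : orderOf fiveCycle = 5 := by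
  have : Fact (Nat.Prime 5) := ⟨by norm_num⟩
  refine orderOf_eq_prime ?_ ?_ <;> decide +kernel

theorem perm5_spec {y : ℕ} (hy : y ∈ y5.flatten) :
    (∃ τ : S8, code τ = y) ∧ cpow y 5 = cone ∧ y ≠ cone := by
  have h := List.all_eq_true.1 perm5_ok y hy
  simp only [Bool.and_eq_true, beq_iff_eq, bne_iff_ne, Nat.blt_eq] at h
  exact ⟨exists_code h.1.1.1 h.1.1.2, h.1.2, h.2⟩

theorem orderOf_of_mem_y5 {τ : S8} (hτ : code τ ∈ y5.flatten) : orderOf τ = 5 := by
  have : Fact (Nat.Prime 5) := ⟨by norm_num⟩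
  obtain ⟨-, h5, h1⟩ := perm5_spec hτ
  refine orderOf_eq_prime (code_injective (by rw [code_pow, h5, code_one])) ?_
  rintro rfl
  exact h1 code_one

theorem std5 {σ : S8} (hσ : orderOf σ = 5) : σ ∈ Std y5 := by
  have hy : ∀ y ∈ y5.flatten, cpow y 5 = cone ∧ y ≠ cone := fun y hy => (perm5_spec hy).2
  have hperm : ∀ y ∈ y5.flatten, ∃ τ : S8, code τ = y := fun y hy => (perm5_spec hy).1
  have hcode : code (Equiv.swap (0 : Fin 8) 1) = 16434817 ∧
      code (Equiv.swap (0 : Fin 8) 1)⁻¹ = 16434817 ∧ code (finRotate 8) = 2054353 ∧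
      code (finRotate 8)⁻¹ = 14038087 := by decide +kernel
  have hclose : ∀ τ : S8, code τ ∈ y5.flatten →
      (∃ k e, code (Equiv.swap (0 : Fin 8) 1 * τ * (Equiv.swap 0 1)⁻¹) = cpow (look2 y5 k) e) ∧
      ∃ k e, code (finRotate 8 * τ * (finRotate 8)⁻¹) = cpow (look2 y5 k) e := by
    intro τ hτ
    obtain ⟨r, hr⟩ := all2_spec' close5_ok _ hτ
    simp only [closeCheck5, Bool.and_eq_true, beq_iff_eq] at hr
    obtain ⟨⟨⟨⟨⟨⟨⟨⟨h1, h2⟩, -⟩, -⟩, -⟩, -⟩, -⟩, -⟩, -⟩ := hr
    refine ⟨⟨r.1, r.2.1, ?_⟩, ⟨r.2.2.1, r.2.2.2, ?_⟩⟩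
    · rw [code_conj, hcode.1, hcode.2.1, h1]
    · rw [code_conj, hcode.2.2.1, hcode.2.2.2, h2]
  have hx : fiveCycle ∈ Std y5 := by
    have h := x5Idx_ok
    simp only [Bool.and_eq_true, beq_iff_eq, ← code_fiveCycle] at h
    have hne : fiveCycle ≠ 1 := fun e => by simpa [e] using orderOf_fiveCycle
    rcases look2_mem y5 x5Idx.1 with hk | hk
    · obtain ⟨τ, hτ⟩ := hperm _ hk
      rw [← hτ, ← code_pow] at h
      exact ⟨τ, hτ ▸ hk, zpowers_eq_of_pow (n := 5) (by norm_num)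
        (code_injective (by rw [code_pow, hτ, (hy _ hk).1, code_one])) (code_injective h.1).symm hne⟩
    · rw [hk, ← code_one, ← code_pow, one_pow] at h
      exact absurd (code_injective h.1).symm hne
  obtain ⟨g, hg⟩ := isConj_iff.1 (isConj_of_orderOf (by norm_num) le_rfl orderOf_fiveCycle hσ)
  rw [← hg]
  exact std_conj (std_closed (by norm_num) hy _ (fun τ h => (hclose τ h).1) hperm)
    (std_closed (by norm_num) hy _ (fun τ h => (hclose τ h).2) hperm) g _ hx

/-- The subgroup generated by the elements of order five. -/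
def fiveGen (H : Subgroup (Equiv.Perm (Fin 8))) : Subgroup (Equiv.Perm (Fin 8)) :=
  Subgroup.closure {σ | σ ∈ H ∧ orderOf σ = 5}

theorem fiveGen_le (H : Subgroup S8) : fiveGen H ≤ H := (Subgroup.closure_le H).2 fun _ h => h.1

theorem mem_fiveGen {H : Subgroup S8} {σ : S8} (hσ : σ ∈ H) (h : orderOf σ = 5) : σ ∈ fiveGen H :=
  Subgroup.subset_closure ⟨hσ, h⟩

theorem conj_mem_fiveGen {H : Subgroup S8} {h m : S8} (hh : h ∈ H) (hm : m ∈ fiveGen H) :
    h * m * h⁻¹ ∈ fiveGen H := by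
  induction hm using Subgroup.closure_induction with
  | mem x hx =>
    refine mem_fiveGen (H.mul_mem (H.mul_mem hh hx.1) (H.inv_mem hh)) ?_
    exact (orderOf_injective (MulAut.conj h).toMonoidHom (MulAut.conj h).injective x).trans hx.2
  | one => simp
  | mul x y _ _ hx hy =>
    have := (fiveGen H).mul_mem hx hy
    simpa [mul_assoc] using this
  | inv x _ hx => simpa [mul_assoc] using (fiveGen H).inv_mem hx

/-- Every element of order five generates the group of a coded one. -/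
theorem exists_coded_five {H : Subgroup S8} {σ : S8} (hσ : σ ∈ H) (h : orderOf σ = 5) :
    ∃ τ ∈ H, code τ ∈ y5.flatten ∧ orderOf τ = 5 ∧ σ ∈ Subgroup.zpowers τ := by
  obtain ⟨τ, hτ, hz⟩ := std5 h
  refine ⟨τ, ?_, hτ, orderOf_of_mem_y5 hτ, hz ▸ Subgroup.mem_zpowers σ⟩
  exact Subgroup.zpowers_le.2 hσ (hz.symm ▸ Subgroup.mem_zpowers τ)

theorem five_dichotomy {H : Subgroup S8} (hH : Good H) (hx : fiveCycle ∈ H) :
    CodeIn (fiveGen H) (star 2) ∨ ∃ j, j ≤ 2 ∧ CodeIn (fiveGen H) (partner5 j) ∧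
      ∀ τ ∈ H, code τ ∈ y5.flatten → code τ ∈ core5 j := by
  by_contra hc
  rw [not_or] at hc
  have hxg : CodeIn (fiveGen H) cx5 :=
    ⟨fiveCycle, mem_fiveGen hx orderOf_fiveCycle, code_fiveCycle⟩
  obtain ⟨τ, hτH, hτY, hτx⟩ : ∃ τ ∈ H, code τ ∈ y5.flatten ∧ τ ∉ Subgroup.zpowers fiveCycle := by
    by_contra hno
    push Not at hno
    have hle : fiveGen H ≤ Subgroup.zpowers fiveCycle := by
      refine (Subgroup.closure_le _).2 fun σ hσ => ?_
      obtain ⟨τ, hτH, hτY, -, hm⟩ := exists_coded_five hσ.1 hσ.2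
      exact Subgroup.zpowers_le.2 (hno τ hτH hτY) hm
    have hp : IsPGroup 5 ((fiveGen H).subgroupOf H) := by
      refine IsPGroup.comap_of_injective (IsPGroup.to_le ?_ hle) H.subtype H.subtype_injective
      exact IsPGroup.of_card (n := 1) (by rw [Nat.card_zpowers, orderOf_fiveCycle]; norm_num)
    have hb := hH.core 5 (by norm_num) ((fiveGen H).subgroupOf H)
      ⟨fun n hn g => conj_mem_fiveGen g.2 hn⟩ hp
    have h1 : (⟨fiveCycle, hx⟩ : H) ∈ (fiveGen H).subgroupOf H := mem_fiveGen hx orderOf_fiveCycle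
    rw [hb, Subgroup.mem_bot] at h1
    have := orderOf_fiveCycle
    rw [show fiveCycle = 1 from congrArg Subtype.val h1, orderOf_one] at this
    omega
  obtain ⟨r, hr⟩ := all2_spec' pair5_ok _ hτY
  have hw : ∀ w, CodeIn (fiveGen H) (evalW [cx5, code τ] 16 w) := fun w => codeIn_evalW
    (by
      intro g hg
      simp only [List.mem_cons, List.not_mem_nil, or_false] at hg
      rcases hg with rfl | rfl
      · exact hxg
      · exact ⟨τ, mem_fiveGen hτH (orderOf_of_mem_y5 hτY), rfl⟩) 16 w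
  simp only [pairCheck5, Bool.or_eq_true, Bool.and_eq_true, beq_iff_eq, Nat.ble_eq] at hr
  rcases hr with (⟨-, hp⟩ | ⟨-, h2⟩) | ⟨⟨-, hj⟩, hp⟩
  · refine hτx ?_
    rw [← code_fiveCycle, ← code_pow] at hp
    rw [code_injective hp]
    exact Subgroup.npow_mem_zpowers _ _
  · exact hc.1 (h2 ▸ hw _)
  · refine hc.2 ⟨r.2.1, hj, hp ▸ hw _, fun z hzH hzY => ?_⟩
    have hw3 : ∀ w, CodeIn (fiveGen H) (evalW [cx5, partner5 r.2.1, code z] 16 w) := fun w => codeIn_evalW
      (by
        intro g hg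
        simp only [List.mem_cons, List.not_mem_nil, or_false] at hg
        rcases hg with rfl | rfl | rfl
        · exact hxg
        · exact hp ▸ hw _
        · exact ⟨z, mem_fiveGen hzH (orderOf_of_mem_y5 hzY), rfl⟩) 16 w
    have htrip : ∀ j, j ≤ 2 → ∃ t, tripCheck5 j (code z) t = true := by
      intro j hj
      interval_cases j
      · exact all2_spec' trip5_0_ok _ hzY
      · exact all2_spec' trip5_1_ok _ hzY
      · exact all2_spec' trip5_2_ok _ hzY
    obtain ⟨t, ht⟩ := htrip _ hj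
    simp only [tripCheck5, Bool.or_eq_true, Bool.and_eq_true, beq_iff_eq, List.contains_iff_mem] at ht
    rcases ht with ⟨-, h⟩ | ⟨-, h⟩
    · exact h
    · exact absurd (h ▸ hw3 t.2) hc.1

end CfsgLib.KnownSimple.AEight
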