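import Cfsg.Agent.Lib.KnownSimple.AEight.Five

/-!
Subgroups of `Alt 8` whose elements of order five generate a transitive `Alt 5` on six points.
-/

set_option autoImplicit false

namespace CfsgLib.KnownSimple.AEight

open Equiv Equiv.Perm

local notation "S8" => Equiv.Perm (Fin 8)
local notation "S5" => Equiv.Perm (Fin 5)

/-- The code of a permutation of five points in base five. -/
def codeFive (g : Equiv.Perm (Fin 5)) : ℕ :=
  (g 0).val + 5 * (g 1).val + 25 * (g 2).val + 125 * (g 3).val + 625 * (g 4).val

theorem digit_codeFive (g : S5) (i : Fin 5) : codeFive g / 5 ^ i.val % 5 = (g i).val := by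
  have h0 := (g 0).isLt; have h1 := (g 1).isLt; have h2 := (g 2).isLt; have h3 := (g 3).isLt
  have h4 := (g 4).isLt
  fin_cases i <;> simp [codeFive] <;> omega

theorem codeFive_mul (a b : S5) : codeFive (a * b) = mul5 (codeFive a) (codeFive b) := by
  have h : ∀ i : Fin 5, codeFive a / 5 ^ (codeFive b / 5 ^ i.val % 5) % 5 = ((a * b) i).val :=
    fun i => by rw [digit_codeFive, digit_codeFive]; rfl
  have h0 := h 0; have h1 := h 1; have h2 := h 2; have h3 := h 3; have h4 := h 4
  simp only [Fin.val_zero, Fin.val_one, Fin.val_two] at h0 h1 h2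
  simp only [mul5]
  rw [h0, h1, h2]
  erw [h3, h4]
  rfl

theorem codeFive_injective : Function.Injective codeFive := fun a b h =>
  Equiv.ext fun i => Fin.ext (by rw [← digit_codeFive a i, h, digit_codeFive])

theorem codeFive_one : codeFive 1 = one5 ∧ codeFive (Equiv.swap 0 1) = swap5 ∧
    codeFive (finRotate 5) = rot5 := by decide +kernel

theorem mem_sym5Words : ∀ g : S5, (sym5Words.any fun e => e.1 == codeFive g) = true := by
  decide +kernel

theorem even5_codeFive : ∀ g : S5, Equiv.Perm.sign g = 1 ↔ even5 (codeFive g) = true := by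
  decide +kernel

theorem core_case {H : Subgroup S8} (hH : Good H) (hx : fiveCycle ∈ H) {j : ℕ} (hj : j ≤ 2)
    (hp : CodeIn (fiveGen H) (partner5 j))
    (hall : ∀ τ ∈ H, code τ ∈ y5.flatten → code τ ∈ core5 j) : IsListed H := by
  set M := fiveGen H with hM
  have hj' : j ∈ [0, 1, 2] := by interval_cases j <;> simp
  have hxg : CodeIn M cx5 := ⟨fiveCycle, mem_fiveGen hx orderOf_fiveCycle, code_fiveCycle⟩
  have hcore : ∀ c ∈ core5 j, CodeIn M c := by
    intro c hc
    obtain ⟨e, he, rfl⟩ := List.mem_map.1 hc
    have := List.all_eq_true.1 (List.all_eq_true.1 coreGens_ok j hj') e he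
    rw [beq_iff_eq] at this
    rw [← this]
    exact codeIn_evalW (fun g hg => by
      simp only [List.mem_cons, List.not_mem_nil, or_false] at hg
      rcases hg with rfl | rfl
      · exact hxg
      · exact hp) _ _
  have htab := List.all_eq_true.1 sym5Table_ok j hj'
  simp only [Bool.and_eq_true, List.all_eq_true, List.any_eq_true, beq_iff_eq, Bool.or_eq_true,
    bne_iff_ne, Bool.not_eq_true', List.contains_iff_mem] at htab
  obtain ⟨⟨⟨h1, hrow⟩, hcoreImg⟩, hnormImg⟩ := htab
  have hw : ∀ g : S5, ∃ e ∈ sym5Words, e.1 = codeFive g := fun g => by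
    simpa [List.any_eq_true] using mem_sym5Words g
  have hperm : ∀ g : S5, ∃ σ : S8, code σ = sym5Im j (codeFive g) := by
    intro g
    obtain ⟨e, he, hg⟩ := hw g
    obtain ⟨f, hf, hf'⟩ := List.mem_map.1 ((hrow e he).1.1.2)
    rw [← hg]
    have hall2 : ∀ j ∈ [0, 1, 2], ∀ c ∈ norm5 j, isPermCode c = true ∧ c < 16777216 := by
      decide +kernel
    have := hall2 j hj' _ (hrow e he).1.1.2
    exact exists_code this.1 this.2
  choose φ hφ using hperm
  have hφ1 : φ 1 = 1 := code_injective (by rw [hφ, codeFive_one.1, h1, code_one])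
  have hgen : ∀ a : S5, φ (a * Equiv.swap 0 1) = φ a * φ (Equiv.swap 0 1) ∧
      φ (a * finRotate 5) = φ a * φ (finRotate 5) := by
    intro a
    obtain ⟨e, he, ha⟩ := hw a
    obtain ⟨⟨⟨⟨⟨-, h2⟩, h3⟩, -⟩, -⟩, -⟩ := hrow e he
    constructor
    · refine code_injective ?_
      rw [hφ, code_mul, hφ, hφ, codeFive_mul, codeFive_one.2.1, ← ha, h2]
    · refine code_injective ?_
      rw [hφ, code_mul, hφ, hφ, codeFive_mul, codeFive_one.2.2, ← ha, h3]
  have hmul : ∀ a b, φ (a * b) = φ a * φ b := by
    intro a b
    have hb : b ∈ Submonoid.closure ({finRotate 5, Equiv.swap (0 : Fin 5) (finRotate 5 0)} : Set S5) := by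
      rw [← Subgroup.closure_toSubmonoid_of_finite,
        Equiv.Perm.closure_cycle_adjacent_swap (isCycle_finRotate (n := 3)) support_finRotate 0]
      trivial
    induction hb using Submonoid.closure_induction_right generalizing a with
    | one => rw [mul_one, hφ1, mul_one]
    | mul_right x _ y hy ih =>
      have hy' : y = finRotate 5 ∨ y = Equiv.swap 0 1 := by
        rcases hy with rfl | rfl
        · exact Or.inl rfl
        · exact Or.inr (by rw [show finRotate 5 0 = 1 by decide])
      have hstep : ∀ c, φ (c * y) = φ c * φ y := by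
        intro c
        rcases hy' with rfl | rfl
        · exact (hgen c).2
        · exact (hgen c).1
      rw [← mul_assoc, hstep, ih, hstep, mul_assoc]
  let f : S5 →* S8 := MonoidHom.mk' φ hmul
  have hf : Function.Injective f := by
    rw [← MonoidHom.ker_eq_bot_iff, eq_bot_iff]
    intro g hg
    obtain ⟨e, he, hge⟩ := hw g
    rcases (hrow e he).1.2 with h | h
    · exact Subgroup.mem_bot.2 (codeFive_injective (by rw [← hge, h, codeFive_one.1]))
    · refine absurd ?_ h
      rw [hge, ← hφ, show φ g = 1 from hg, code_one]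
  have heven : ∀ g : S5, Equiv.Perm.sign g = 1 → f g ∈ M := by
    intro g hg
    obtain ⟨e, he, hge⟩ := hw g
    rcases (hrow e he).2 with h | h
    · rw [hge, ((even5_codeFive g).1 hg)] at h
      exact absurd h (by simp)
    · refine codeIn_code ?_
      show CodeIn M (code (φ g))
      rw [hφ, ← hge]
      exact hcore _ h
  have himg : ∀ c ∈ core5 j, ∀ σ : S8, code σ = c → ∃ g, Equiv.Perm.sign g = 1 ∧ f g = σ := by
    intro c hc σ hσ
    obtain ⟨e, he, he2, hec⟩ := hcoreImg c hc
    obtain ⟨g, hg⟩ : ∃ g : S5, codeFive g = e.1 := by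
      have : ∀ e ∈ sym5Words, ∃ g : S5, codeFive g = e.1 := by decide +kernel
      exact this e he
    refine ⟨g, (even5_codeFive g).2 (hg ▸ he2), code_injective ?_⟩
    show code (φ g) = code σ
    rw [hφ, hg, hec, hσ]
  have hMimg : ∀ m ∈ M, ∃ g, Equiv.Perm.sign g = 1 ∧ f g = m := by
    have hle : M ≤ (alternatingGroup (Fin 5)).map f := by
      refine (Subgroup.closure_le _).2 fun σ hσ => ?_
      obtain ⟨τ, hτ, hY, -, hz⟩ := exists_coded_five hσ.1 hσ.2
      obtain ⟨g, hg, hgτ⟩ := himg _ (hall τ hτ hY) τ rfl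
      exact (Subgroup.zpowers_le (H := (alternatingGroup (Fin 5)).map f)).2
        ⟨g, mem_alternatingGroup.2 hg, hgτ⟩ hz
    intro m hm
    obtain ⟨g, hg, hgm⟩ := hle hm
    exact ⟨g, mem_alternatingGroup.1 hg, hgm⟩
  have hMcode : ∀ m ∈ M, code m ∈ core5 j := by
    intro m hm
    obtain ⟨g, hg, rfl⟩ := hMimg m hm
    obtain ⟨e, he, hge⟩ := hw g
    rcases (hrow e he).2 with h | h
    · rw [hge, ((even5_codeFive g).1 hg)] at h
      exact absurd h (by simp)
    · show code (φ g) ∈ core5 j
      rwa [hφ, ← hge]
  have hHle : H ≤ f.range := by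
    intro h hh
    have hc1 := hMcode _ (conj_mem_fiveGen hh (mem_fiveGen hx orderOf_fiveCycle))
    obtain ⟨p, hpM, hpc⟩ := hp
    have hc2 := hMcode _ (conj_mem_fiveGen hh hpM)
    set xp := h * fiveCycle * h⁻¹ with hxp
    have hord : orderOf xp = 5 := by
      rw [hxp, ← orderOf_fiveCycle]
      exact orderOf_injective (MulAut.conj h).toMonoidHom (MulAut.conj h).injective fiveCycle
    have hn := List.all_eq_true.1 (List.all_eq_true.1 norm5_ok j hj') _ hc1
    simp only [Bool.or_eq_true, bne_iff_ne, beq_iff_eq, List.all_eq_true, List.mem_filter,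
      List.mem_range, Bool.not_eq_true', beq_eq_false_iff_ne,
      List.contains_iff_mem, List.any_eq_false] at hn
    rcases hn with (h5 | h5) | hn
    · exact absurd (by rw [← code_pow, ← hord, pow_orderOf_eq_one, code_one]) h5
    · rw [← code_one] at h5
      rw [code_injective h5, orderOf_one] at hord
      omega
    · have hstep : ∀ i : Fin 8, xp (h i) = h (fiveCycle i) := fun i => by simp [hxp]
      have hfix : ∀ i : Fin 8, dig (code xp) (h i).val = (h (fiveCycle i)).val := fun i => by
        rw [dig_code, hstep]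
      have hd1 : dig (code xp) (h 0).val = (h 1).val :=
        (hfix 0).trans (by rw [show fiveCycle 0 = 1 by decide])
      have hd2 : dig (code xp) (h 1).val = (h 2).val :=
        (hfix 1).trans (by rw [show fiveCycle 1 = 2 by decide])
      have hd3 : dig (code xp) (h 2).val = (h 3).val :=
        (hfix 2).trans (by rw [show fiveCycle 2 = 3 by decide])
      have hd4 : dig (code xp) (h 3).val = (h 4).val :=
        (hfix 3).trans (by rw [show fiveCycle 3 = 4 by decide])
      have hd5 : ∀ i : Fin 8, fiveCycle i = i → dig (code xp) (h i).val = (h i).val :=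
        fun i hi => (hfix i).trans (by rw [hi])
      have hmove : dig (code xp) (h 0).val ≠ (h 0).val := by
        rw [hd1]
        exact fun e => absurd (h.injective (Fin.ext e)) (by decide)
      have hne : ∀ a b : Fin 8, a ≠ b → (h a).val ≠ (h b).val :=
        fun a b hab e => hab (h.injective (Fin.ext e))
      have hcand : cand5 (code xp) (h 0).val (h 5).val (h 6).val (h 7).val = code h := by
        simp only [cand5, hd1, hd2, hd3, hd4]
        rfl
      rcases hn (h 0).val ⟨(h 0).isLt, hmove⟩
          (h 5).val ⟨(h 5).isLt, hd5 5 (by decide)⟩ (h 6).val ⟨(h 6).isLt, hd5 6 (by decide)⟩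
          (h 7).val ⟨(h 7).isLt, hd5 7 (by decide)⟩ with ((((h' | h') | h') | h') | h') | h'
      · exact absurd h' (hne 5 6 (by decide))
      · exact absurd h' (hne 6 7 (by decide))
      · exact absurd h' (hne 5 7 (by decide))
      · rw [hcand, evenCode_code h (hH.sign hh)] at h'
        exact absurd h' (by simp)
      · refine absurd ?_ (h' _ hc2)
        rw [hcand, ← hpc, ← code_mul, ← code_mul, inv_mul_cancel_right]
      · rw [hcand] at h'
        obtain ⟨e, he, hec⟩ := hnormImg _ h'
        obtain ⟨g, hg⟩ : ∃ g : S5, codeFive g = e.1 := by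
          have : ∀ e ∈ sym5Words, ∃ g : S5, codeFive g = e.1 := by decide +kernel
          exact this e he
        refine ⟨g, code_injective ?_⟩
        show code (φ g) = code h
        rw [hφ, hg, hec]
  have hA : alternatingGroup (Fin 5) ≤ H.comap f := fun g hg =>
    fiveGen_le H (heven g (mem_alternatingGroup.1 hg))
  have e : (H.comap f) ≃* H :=
    ((H.comap f).equivMapOfInjective f hf).trans
      (MulEquiv.subgroupCongr (Subgroup.map_comap_eq_self hHle))
  rcases eq_alt_or_top hA with hr | hr
  · exact Or.inl ⟨5, le_rfl, by norm_num, ⟨e.symm.trans (MulEquiv.subgroupCongr hr)⟩⟩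
  · exact Or.inr (Or.inl ⟨e.symm.trans ((MulEquiv.subgroupCongr hr).trans Subgroup.topEquiv)⟩)

end CfsgLib.KnownSimple.AEight
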