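import Cfsg.Agent.Lib.KnownSimple.AEight.Five

/-!
Subgroups of `Alt 8` whose elements of order five generate a three-cycle.
-/

set_option autoImplicit false

namespace CfsgLib.KnownSimple.AEight

open Equiv Equiv.Perm

local notation "S8" => Equiv.Perm (Fin 8)

theorem swap_mul_swap_mem {M : Subgroup S8} {P : Fin 8 → Prop}
    (h : ∀ s, P s → s ≠ 0 → s ≠ 1 → Equiv.swap 0 1 * Equiv.swap 1 s ∈ M) :
    ∀ x y, P x → P y → x ≠ y → Equiv.swap x y * Equiv.swap 0 1 ∈ M := by
  set t : S8 := Equiv.swap 0 1 with ht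
  have tt : t * t = 1 := by simp [ht]
  have hb : ∀ s, P s → s ≠ 0 → s ≠ 1 → Equiv.swap 1 s * t ∈ M := fun s hP h0 h1 => by
    simpa [ht, Equiv.swap_inv, Equiv.swap_comm] using M.inv_mem (h s hP h0 h1)
  have ha : ∀ s, P s → s ≠ 0 → s ≠ 1 → Equiv.swap 0 s * t ∈ M := by
    intro s hP h0 h1
    have hc : Equiv.swap 0 s = t * Equiv.swap 1 s * t⁻¹ := by
      rw [← Equiv.swap_apply_apply, ht, Equiv.swap_apply_right,
        Equiv.swap_apply_of_ne_of_ne h0 h1]
    rw [hc, inv_mul_cancel_right]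
    exact h s hP h0 h1
  have h01 : ∀ s, P s → s ≠ 0 → Equiv.swap 0 s * t ∈ M := fun s hP h0 => by
    by_cases h1 : s = 1
    · rw [h1, ← ht, tt]; exact M.one_mem
    · exact ha s hP h0 h1
  intro x y hx hy hxy
  by_cases hx0 : x = 0
  · exact hx0 ▸ h01 y hy (hx0 ▸ hxy.symm)
  by_cases hy0 : y = 0
  · rw [hy0, Equiv.swap_comm]; exact h01 x hx hx0
  by_cases hx1 : x = 1
  · exact hx1 ▸ hb y hy hy0 (hx1 ▸ hxy.symm)
  by_cases hy1 : y = 1
  · rw [hy1, Equiv.swap_comm]; exact hb x hx hx0 hx1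
  have hc : Equiv.swap x y = Equiv.swap 1 x * Equiv.swap 1 y * (Equiv.swap 1 x)⁻¹ := by
    rw [← Equiv.swap_apply_apply, Equiv.swap_apply_left, Equiv.swap_apply_of_ne_of_ne hy1 hxy.symm]
  have he : Equiv.swap x y * t =
      Equiv.swap 1 x * t * (t * Equiv.swap 1 y) * (Equiv.swap 1 x * t) := by
    rw [hc, Equiv.swap_inv]
    simp only [mul_assoc]
    rw [← mul_assoc t t, tt, one_mul]
  rw [he]
  refine M.mul_mem (M.mul_mem (hb x hx hx0 hx1) ?_) (hb x hx hx0 hx1)
  exact ht ▸ h y hy hy0 hy1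

theorem even_swaps_mem {α : Type*} [DecidableEq α] {M : Subgroup S8} {φ : Equiv.Perm α →* S8}
    {t : S8} (ht : t * t = 1)
    (h : ∀ a : Equiv.Perm α, a.IsSwap → φ a * t ∈ M) :
    ∀ l : List (Equiv.Perm α), (∀ a ∈ l, a.IsSwap) →
      (l.length % 2 = 0 → φ l.prod ∈ M) ∧ (l.length % 2 = 1 → t * φ l.prod ∈ M)
  | [], _ => ⟨fun _ => by simp, fun h => by simp at h⟩
  | a :: l, hl => by
    have ih := even_swaps_mem ht h l fun b hb => hl b (List.mem_cons_of_mem _ hb)
    have ha := h a (hl a List.mem_cons_self)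
    have ha' : t * φ a ∈ M := by
      have := M.inv_mem ha
      rwa [mul_inv_rev, ← map_inv, inv_eq_of_mul_eq_one_right ht,
        (by obtain ⟨x, y, -, rfl⟩ := hl a List.mem_cons_self; exact Equiv.swap_inv x y : a⁻¹ = a)] at this
    refine ⟨fun hlen => ?_, fun hlen => ?_⟩
    · have := M.mul_mem ha (ih.2 (by rw [List.length_cons] at hlen; omega))
      rwa [mul_assoc, ← mul_assoc t t, ht, one_mul, ← map_mul, ← List.prod_cons] at this
    · have := M.mul_mem ha' (ih.1 (by rw [List.length_cons] at hlen; omega))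
      rwa [mul_assoc, ← map_mul, ← List.prod_cons] at this

theorem star_eq (s : Fin 8) : star s.val = code (Equiv.swap 0 1 * Equiv.swap 1 s) := by
  unfold star
  rw [show Fin.ofNat 8 s.val = s from Fin.ext (Nat.mod_eq_of_lt s.isLt)]

theorem star_case {H : Subgroup S8} (hH : Good H) (hx : fiveCycle ∈ H)
    (h2 : CodeIn (fiveGen H) (star 2)) : IsListed H := by
  classical
  set M := fiveGen H with hM
  have hxg : CodeIn M cx5 := ⟨fiveCycle, mem_fiveGen hx orderOf_fiveCycle, code_fiveCycle⟩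
  let S : Finset (Fin 8) := Finset.univ.filter fun i => i = 0 ∨ i = 1 ∨ CodeIn M (star i.val)
  have hS : ∀ i, i ∈ S ↔ i = 0 ∨ i = 1 ∨ CodeIn M (star i.val) := by simp [S]
  have hstar : ∀ τ ∈ H, code τ ∈ y5.flatten → ∀ i : Fin 8, i ∈ S ∨ (τ i = i ∧ 5 ≤ i.val) := by
    intro τ hτ hY i
    obtain ⟨r, hr⟩ := all2_spec' star5_ok _ hY
    simp only [starCheck5, Bool.and_eq_true, List.all_eq_true, List.mem_range, Bool.or_eq_true,
      Nat.ble_eq, beq_iff_eq, List.any_eq_true] at hr
    obtain ⟨hr1, hr2⟩ := hr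
    rcases hr1 i.val i.isLt with (h | ⟨h, h'⟩) | ⟨e, he, hei⟩
    · refine Or.inl ((hS i).2 ?_)
      rcases Nat.le_one_iff_eq_zero_or_eq_one.1 h with h | h
      · exact Or.inl (Fin.ext h)
      · exact Or.inr (Or.inl (Fin.ext h))
    · exact Or.inr ⟨Fin.ext (by rw [← dig_code τ i, h]), h'⟩
    · refine Or.inl ((hS i).2 (Or.inr (Or.inr ?_)))
      rw [← hei, ← hr2 e he]
      refine codeIn_evalW (fun g hg => ?_) _ _
      simp only [List.mem_cons, List.not_mem_nil, or_false] at hg
      rcases hg with rfl | rfl | rfl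
      · exact hxg
      · exact h2
      · exact ⟨τ, mem_fiveGen hτ (orderOf_of_mem_y5 hY), rfl⟩
  have hMfix : ∀ m ∈ M, ∀ i, i ∉ S → m i = i := by
    intro m hm
    induction hm using Subgroup.closure_induction with
    | mem x hx' =>
      intro i hi
      obtain ⟨τ, hτ, hY, -, hz⟩ := exists_coded_five hx'.1 hx'.2
      obtain ⟨k, rfl⟩ := Subgroup.mem_zpowers_iff.1 hz
      exact Equiv.Perm.zpow_apply_eq_self_of_apply_eq_self (((hstar τ hτ hY i).resolve_left hi).1) k
    | one => intros; rfl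
    | mul x y _ _ hx hy => intro i hi; rw [Equiv.Perm.mul_apply, hy i hi, hx i hi]
    | inv x _ hx => intro i hi; exact Equiv.Perm.inv_eq_iff_eq.2 (hx i hi).symm
  have hS5 : ∀ i : Fin 8, i.val < 5 → i ∈ S := by
    intro i hi
    obtain ⟨τ, hτ, hY, -, -⟩ := exists_coded_five hx orderOf_fiveCycle
    exact (hstar τ hτ hY i).resolve_right fun h => by omega
  have hcardS : 5 ≤ S.card := by
    have hsub : (Finset.univ.filter fun i : Fin 8 => i.val < 5) ⊆ S := fun i hi =>
      hS5 i (Finset.mem_filter.1 hi).2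
    calc 5 = (Finset.univ.filter fun i : Fin 8 => i.val < 5).card := by decide
      _ ≤ S.card := Finset.card_le_card hsub
  have hcardS' : S.card ≤ 8 := (Finset.card_le_univ S).trans (by simp)
  let ext : Equiv.Perm {i // i ∈ S} →* S8 := Equiv.Perm.ofSubtype
  have hAM : ∀ g : Equiv.Perm {i // i ∈ S}, Equiv.Perm.sign g = 1 → ext g ∈ M := by
    intro g hg
    obtain ⟨l, hl, hswap⟩ := (Equiv.Perm.truncSwapFactors g).out
    have hlen := Equiv.Perm.prod_list_swap_mem_alternatingGroup_iff_even_length hswap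
    rw [hl, mem_alternatingGroup] at hlen
    have hmem : ∀ a : Equiv.Perm {i // i ∈ S}, a.IsSwap → ext a * Equiv.swap 0 1 ∈ M := by
      rintro a ⟨x, y, hxy, rfl⟩
      change Equiv.Perm.ofSubtype (Equiv.swap x y) * _ ∈ M
      rw [Equiv.Perm.ofSubtype_swap_eq]
      refine swap_mul_swap_mem (P := (· ∈ S)) (fun s hs h0 h1 => ?_) _ _ x.2 y.2
        (fun e => hxy (Subtype.ext e))
      have := ((hS s).1 hs).resolve_left h0 |>.resolve_left h1
      rw [star_eq] at this
      exact codeIn_code this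
    have := (even_swaps_mem (M := M) (φ := ext) (t := Equiv.swap 0 1) (by simp) hmem l hswap).1
      (Nat.even_iff.1 (hlen.1 hg))
    rwa [hl] at this
  have hinv : ∀ h ∈ H, ∀ i ∈ S, h i ∈ S := by
    intro h hh i hi
    obtain ⟨m, hm, hmi⟩ : ∃ m ∈ M, m i ≠ i := by
      rcases (hS i).1 hi with rfl | rfl | hc
      · obtain ⟨σ, hσ, hc⟩ := h2
        refine ⟨σ, hσ, ?_⟩
        rw [code_injective (hc.trans (star_eq 2))]
        decide
      · obtain ⟨σ, hσ, hc⟩ := h2
        refine ⟨σ, hσ, ?_⟩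
        rw [code_injective (hc.trans (star_eq 2))]
        decide
      · by_cases hi1 : i = 0 ∨ i = 1
        · obtain ⟨σ, hσ, hc⟩ := h2
          refine ⟨σ, hσ, ?_⟩
          rw [code_injective (hc.trans (star_eq 2))]
          rcases hi1 with rfl | rfl <;> decide
        · rw [star_eq] at hc
          refine ⟨_, codeIn_code hc, ?_⟩
          rw [not_or] at hi1
          rw [Equiv.Perm.mul_apply, Equiv.swap_apply_right, Equiv.swap_apply_right]
          exact fun e => hi1.1 e.symm
    by_contra hni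
    have := hMfix _ (conj_mem_fiveGen hh hm) (h i) hni
    simp only [Equiv.Perm.coe_mul, Function.comp_apply, Equiv.Perm.inv_def, Equiv.symm_apply_apply] at this
    exact hmi (h.injective this)
  have hiff : ∀ h ∈ H, ∀ i, i ∈ S ↔ h i ∈ S := fun h hh i =>
    ⟨hinv h hh i, fun hi => by simpa using hinv h⁻¹ (H.inv_mem hh) _ hi⟩
  let ρ : H →* Equiv.Perm {i // i ∈ S} :=
    MonoidHom.mk' (fun h => h.1.subtypePerm fun i => (hiff h.1 h.2 i).symm) fun a b => by
      refine Equiv.ext fun i => Subtype.ext ?_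
      rfl
  have hρ : ∀ (h : H) (i : {i // i ∈ S}), (ρ h i).1 = h.1 i.1 := fun h i => rfl
  have hker : ρ.ker = ⊥ := by
    let D : Finset (Fin 8) := Sᶜ
    have hD : D.card ≤ 3 := by
      rw [Finset.card_compl, Fintype.card_fin]; omega
    have hfix : ∀ h ∈ ρ.ker, ∀ i ∈ S, (h : S8) i = i := by
      intro h hh i hi
      exact congrArg Subtype.val (Equiv.ext_iff.1 (MonoidHom.mem_ker.1 hh) ⟨i, hi⟩)
    refine hH.core 3 Nat.prime_three ρ.ker inferInstance fun h => ?_
    refine ⟨1, ?_⟩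
    have hs : ∀ i, i ∉ D → ((h : H) : S8) i = i := fun i hi =>
      hfix _ h.2 i (by simpa [D] using hi)
    have hsupp : ((h : H) : S8).support ⊆ D := fun i hi => by
      by_contra hD'
      exact (Equiv.Perm.mem_support.1 hi) (hs i hD')
    have hsign := hH.sign (h : H).2
    have hc3 : ((h : H) : S8).support.card ≤ 3 := (Finset.card_le_card hsupp).trans hD
    have h3 : ((h : H) : S8) ^ 3 = 1 := by
      by_cases h0 : ((h : H) : S8) = 1
      · rw [h0, one_pow]
      · rcases lt_or_eq_of_le hc3 with hlt | heq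
        · have := Equiv.Perm.two_le_card_support_of_ne_one h0
          have hsw : ((h : H) : S8).IsSwap := Equiv.Perm.card_support_eq_two.1 (by omega)
          rw [hsw.sign_eq] at hsign
          exact absurd hsign (by decide)
        · rw [← (card_support_eq_three_iff.1 heq).orderOf]
          exact pow_orderOf_eq_one _
    apply Subtype.ext; apply Subtype.ext
    simpa using h3
  have hinj : Function.Injective ρ := (MonoidHom.ker_eq_bot_iff _).1 hker
  have hrange : alternatingGroup {i // i ∈ S} ≤ ρ.range := by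
    intro g hg
    refine ⟨⟨ext g, fiveGen_le H (hAM g (mem_alternatingGroup.1 hg))⟩, ?_⟩
    refine Equiv.ext fun i => Subtype.ext ?_
    rw [hρ]
    exact Equiv.Perm.ofSubtype_apply_coe g i
  let eS : {i // i ∈ S} ≃ Fin S.card := S.equivFin
  rcases eq_alt_or_top hrange with hr | hr
  · exact Or.inl ⟨S.card, hcardS, hcardS', ⟨(MonoidHom.ofInjective hinj).trans
      ((MulEquiv.subgroupCongr hr).trans (Equiv.altCongrHom eS))⟩⟩
  · have e : H ≃* Equiv.Perm (Fin S.card) := (MonoidHom.ofInjective hinj).trans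
      ((MulEquiv.subgroupCongr hr).trans (Subgroup.topEquiv.trans eS.permCongrHom))
    rcases (show S.card = 5 ∨ S.card = 6 ∨ 7 ≤ S.card by omega) with h | h | h
    · rw [h] at e
      exact Or.inr (Or.inl ⟨e⟩)
    · rw [h] at e
      exact Or.inr (Or.inr (Or.inl ⟨e⟩))
    · exfalso
      have h0S : (0 : Fin 8) ∈ S := hS5 0 (by simp)
      have h1S : (1 : Fin 8) ∈ S := hS5 1 (by simp)
      obtain ⟨a, ha⟩ : Equiv.swap (⟨0, h0S⟩ : {i // i ∈ S}) ⟨1, h1S⟩ ∈ ρ.range := hr ▸ trivial
      have hfix : ∀ i, (a : S8) i ≠ i → i ∈ S := by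
        intro i hi
        by_contra hni
        have hD : (Sᶜ : Finset (Fin 8)).card ≤ 1 := by
          rw [Finset.card_compl, Fintype.card_fin]; omega
        refine hi (Finset.card_le_one.1 hD _ ?_ i (Finset.mem_compl.2 hni))
        exact Finset.mem_compl.2 fun h' => hni ((hiff _ a.2 i).2 h')
      have hof : Equiv.Perm.ofSubtype (ρ a) = (a : S8) :=
        Equiv.Perm.ofSubtype_subtypePerm (fun i => (hiff _ a.2 i).symm) hfix
      have hsign := hH.sign a.2
      rw [← hof, Equiv.Perm.sign_ofSubtype, ha, Equiv.Perm.sign_swap (by simp)] at hsign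
      exact absurd hsign (by decide)

end CfsgLib.KnownSimple.AEight
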