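import Cfsg.Agent.Lib.KnownSimple.AEight.Seven

/-!
The `GL_3(2)` subgroups of `Alt 8`.
-/

set_option autoImplicit false

namespace CfsgLib.KnownSimple.AEight

open Equiv Equiv.Perm

local notation "S8" => Equiv.Perm (Fin 8)
local notation "M3" => Matrix (Fin 3) (Fin 3) (ZMod 2)

/-- The bit code of a matrix. -/
def bits (m : Matrix (Fin 3) (Fin 3) (ZMod 2)) : ℕ :=
  (m 0 0).val + 2 * (m 0 1).val + 4 * (m 0 2).val + 8 * (m 1 0).val + 16 * (m 1 1).val +
    32 * (m 1 2).val + 64 * (m 2 0).val + 128 * (m 2 1).val + 256 * (m 2 2).val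

/-- The matrix of a bit code. -/
def ofBits (c : ℕ) : Matrix (Fin 3) (Fin 3) (ZMod 2) :=
  Matrix.of fun i j => ((c / 2 ^ (3 * i.val + j.val) % 2 : ℕ) : ZMod 2)

theorem ofBits_bits (m : M3) : ofBits (bits m) = m := by
  have h : ∀ i j, (m i j).val < 2 := fun i j => ZMod.val_lt _
  have h00 := h 0 0; have h01 := h 0 1; have h02 := h 0 2
  have h10 := h 1 0; have h11 := h 1 1; have h12 := h 1 2
  have h20 := h 2 0; have h21 := h 2 1; have h22 := h 2 2
  refine Matrix.ext fun i j => ZMod.val_injective 2 ?_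
  rw [ofBits, Matrix.of_apply, ZMod.val_natCast]
  fin_cases i <;> fin_cases j <;> simp [bits] <;> omega

theorem bits_lt (m : M3) : bits m < 512 := by
  have h : ∀ i j, (m i j).val < 2 := fun i j => ZMod.val_lt _
  have h00 := h 0 0; have h01 := h 0 1; have h02 := h 0 2
  have h10 := h 1 0; have h11 := h 1 1; have h12 := h 1 2
  have h20 := h 2 0; have h21 := h 2 1; have h22 := h 2 2
  unfold bits
  omega

theorem bmul_gens : ∀ c < 512,
    bits (ofBits gl3GenA * ofBits c) = bmul gl3GenA c ∧
    bits (ofBits gl3GenB * ofBits c) = bmul gl3GenB c ∧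
    bits (ofBits c * ofBits gl3GenA) = bmul c gl3GenA ∧
    bits (ofBits c * ofBits gl3GenB) = bmul c gl3GenB := by decide +kernel

theorem det_bits : ∀ c < 512, bdet c = 0 →
    ofBits c 0 0 * ofBits c 1 1 * ofBits c 2 2 - ofBits c 0 0 * ofBits c 1 2 * ofBits c 2 1 -
      ofBits c 0 1 * ofBits c 1 0 * ofBits c 2 2 + ofBits c 0 1 * ofBits c 1 2 * ofBits c 2 0 +
      ofBits c 0 2 * ofBits c 1 0 * ofBits c 2 1 - ofBits c 0 2 * ofBits c 1 1 * ofBits c 2 0 = 0 := by
  decide +kernel

theorem bits_one : bits 1 = 273 := by decide +kernel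

theorem bdet_ne_zero (g : GL (Fin 3) (ZMod 2)) : bdet (bits g.val) ≠ 0 := by
  intro h
  have h0 := det_bits _ (bits_lt g.val) h
  rw [ofBits_bits, ← Matrix.det_fin_three] at h0
  exact ((Matrix.isUnit_iff_isUnit_det g.val).1 g.isUnit).ne_zero h0

/-- The first generator. -/
def glA : GL (Fin 3) (ZMod 2) :=
  Matrix.GeneralLinearGroup.mkOfDetNeZero (ofBits gl3GenA) (by decide +kernel)

/-- The second generator. -/
def glB : GL (Fin 3) (ZMod 2) :=
  Matrix.GeneralLinearGroup.mkOfDetNeZero (ofBits gl3GenB) (by decide +kernel)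

theorem bits_glA_mul (g : GL (Fin 3) (ZMod 2)) :
    bits (glA * g).val = bmul gl3GenA (bits g.val) ∧ bits (glB * g).val = bmul gl3GenB (bits g.val) ∧
      bits (g * glA).val = bmul (bits g.val) gl3GenA ∧ bits (g * glB).val = bmul (bits g.val) gl3GenB := by
  have h := bmul_gens _ (bits_lt g.val)
  rw [ofBits_bits] at h
  exact h

theorem exists_word : ∀ (fuel w : ℕ), ∃ g : GL (Fin 3) (ZMod 2),
    g ∈ Submonoid.closure ({glA, glB} : Set (GL (Fin 3) (ZMod 2))) ∧ bits g.val = bevalW fuel w
  | 0, _ => ⟨1, one_mem _, bits_one⟩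
  | fuel + 1, w => by
    obtain ⟨g, hg, he⟩ := exists_word fuel (w / 8)
    simp only [bevalW]
    split_ifs
    · exact ⟨1, one_mem _, bits_one⟩
    · rcases hi : w % 8 - 1 with _ | _ | k
      · exact ⟨glA * g, mul_mem (Submonoid.subset_closure (by simp)) hg,
          by rw [(bits_glA_mul g).1, he]; rfl⟩
      · exact ⟨glB * g, mul_mem (Submonoid.subset_closure (by simp)) hg,
          by rw [(bits_glA_mul g).2.1, he]; rfl⟩
      · refine ⟨g, hg, ?_⟩
        have hd : ∀ c < 512, bmul 273 c = c := by decide +kernel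
        rw [← he]
        simpa using (hd _ (bits_lt g.val)).symm

theorem gl_generated (g : GL (Fin 3) (ZMod 2)) :
    g ∈ Submonoid.closure ({glA, glB} : Set (GL (Fin 3) (ZMod 2))) := by
  obtain ⟨k, hk, he⟩ := exists_word 24 ((gl3Words.lookup (bits g.val)).getD 0)
  have h := List.all_eq_true.1 gl3Words_ok _ (List.mem_range.2 (bits_lt g.val))
  simp only [Bool.or_eq_true, Bool.and_eq_true, beq_iff_eq] at h
  have : bits k.val = bits g.val := he.trans (h.resolve_left (bdet_ne_zero g)).1
  rwa [show g = k from Units.ext (by rw [← ofBits_bits g.val, ← this, ofBits_bits])]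

theorem gl_case {H : Subgroup S8} (hH : Good H) (hx : sevenCycle ∈ H) {j : ℕ} (hj : j ≤ 2)
    (hp : CodeIn (sevenGen H) (partner7 j))
    (hall : ∀ τ ∈ H, code τ ∈ y7.flatten → code τ ∈ coreList j) : IsListed H := by
  set M := sevenGen H with hM
  have hj' : j ∈ [0, 1, 2] := by interval_cases j <;> simp
  have hxg : CodeIn M cx7 :=
    ⟨sevenCycle, mem_sevenGen hx orderOf_sevenCycle, code_sevenCycle⟩
  have hcore : ∀ c ∈ coreList j, CodeIn M c := by
    intro c hc
    obtain ⟨e, he, rfl⟩ := List.mem_map.1 hc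
    have := List.all_eq_true.1 (List.all_eq_true.1 coreWords_ok j hj') e he
    rw [beq_iff_eq] at this
    rw [← this]
    exact codeIn_evalW (fun g hg => by
      simp only [List.mem_cons, List.not_mem_nil, or_false] at hg
      rcases hg with rfl | rfl
      · exact hxg
      · exact hp) _ _
  have htab := List.all_eq_true.1 gl3Table_ok j hj'
  simp only [Bool.and_eq_true, List.all_eq_true, List.any_eq_true, beq_iff_eq, Bool.or_eq_true,
    bne_iff_ne, List.contains_iff_mem] at htab
  obtain ⟨⟨h1, hrow⟩, himg⟩ := htab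
  have hw : ∀ g : GL (Fin 3) (ZMod 2), ∃ e ∈ gl3Words, e.1 = bits g.val := by
    intro g
    have h := List.all_eq_true.1 gl3Mem_ok _ (List.mem_range.2 (bits_lt g.val))
    simp only [Bool.or_eq_true, List.any_eq_true, beq_iff_eq] at h
    exact h.resolve_left (bdet_ne_zero g)
  have hperm : ∀ g : GL (Fin 3) (ZMod 2), ∃ σ : S8, σ ∈ M ∧ code σ = gl3Im j (bits g.val) := by
    intro g
    obtain ⟨e, he, hg⟩ := hw g
    rw [← hg]
    exact hcore _ (hrow e he).1.2
  choose φ hφM hφ using hperm
  have hgen : ∀ a, φ (a * glA) = φ a * φ glA ∧ φ (a * glB) = φ a * φ glB := by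
    intro a
    obtain ⟨e, he, ha⟩ := hw a
    obtain ⟨⟨⟨h2, h3⟩, -⟩, -⟩ := hrow e he
    have hA : bits glA.val = gl3GenA := by decide +kernel
    have hB : bits glB.val = gl3GenB := by decide +kernel
    constructor
    · refine code_injective ?_
      rw [hφ, code_mul, hφ, hφ, (bits_glA_mul a).2.2.1, hA, ← ha, h2]
    · refine code_injective ?_
      rw [hφ, code_mul, hφ, hφ, (bits_glA_mul a).2.2.2, hB, ← ha, h3]
  have hφ1 : φ 1 = 1 := code_injective (by rw [hφ, Units.val_one, bits_one, h1, code_one])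
  have hmul : ∀ a b, φ (a * b) = φ a * φ b := by
    intro a b
    have hb := gl_generated b
    induction hb using Submonoid.closure_induction_right generalizing a with
    | one => rw [mul_one, hφ1, mul_one]
    | mul_right x _ y hy ih =>
      have hstep : ∀ c, φ (c * y) = φ c * φ y := by
        intro c
        rcases hy with rfl | rfl
        · exact (hgen c).1
        · exact (hgen c).2
      rw [← mul_assoc, hstep, ih, hstep, mul_assoc]
  let f : GL (Fin 3) (ZMod 2) →* S8 := MonoidHom.mk' φ hmul
  have hf : Function.Injective f := by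
    rw [← MonoidHom.ker_eq_bot_iff, eq_bot_iff]
    intro g hg
    obtain ⟨e, he, hge⟩ := hw g
    rcases (hrow e he).2 with h | h
    · refine Subgroup.mem_bot.2 (Units.ext ?_)
      rw [← ofBits_bits g.val, ← hge, h, ← bits_one, ofBits_bits]
      rfl
    · refine absurd ?_ h
      rw [hge, ← hφ, show φ g = 1 from hg, code_one]
  have hrange : ∀ c ∈ coreList j, ∀ σ : S8, code σ = c → σ ∈ f.range := by
    intro c hc σ hσ
    obtain ⟨e, he, hec⟩ := himg c hc
    have hall3 : ∀ e ∈ gl3Words, (ofBits e.1).det ≠ 0 ∧ bits (ofBits e.1) = e.1 := by decide +kernel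
    refine ⟨Matrix.GeneralLinearGroup.mkOfDetNeZero (ofBits e.1) (hall3 e he).1, code_injective ?_⟩
    show code (φ _) = code σ
    rw [hφ]
    show gl3Im j (bits (ofBits e.1)) = code σ
    rw [(hall3 e he).2, hec, hσ]
  have hHle : H ≤ f.range := by
    intro h hh
    set xp := h * sevenCycle * h⁻¹ with hxp
    have hord : orderOf xp = 7 := by
      rw [hxp, ← orderOf_sevenCycle]
      exact orderOf_injective (MulAut.conj h).toMonoidHom (MulAut.conj h).injective sevenCycle
    have hxpM : xp ∈ M := conj_mem_sevenGen hh (mem_sevenGen hx orderOf_sevenCycle)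
    have hMle : M ≤ f.range := (Subgroup.closure_le _).2 fun σ hσ => by
      obtain ⟨τ, hτ, hY, -, hz⟩ := exists_coded_seven hσ.1 hσ.2
      exact (Subgroup.zpowers_le (H := f.range)).2 (hrange _ (hall τ hτ hY) τ rfl) hz
    have hc1 : code xp ∈ coreList j := by
      obtain ⟨g, hg⟩ := hMle hxpM
      obtain ⟨e, he, hge⟩ := hw g
      rw [← hg]
      show code (φ g) ∈ _
      rw [hφ, ← hge]
      exact (hrow e he).1.2
    have hn := List.all_eq_true.1 (List.all_eq_true.1 norm7_ok j hj') _ hc1
    simp only [Bool.or_eq_true, bne_iff_ne, beq_iff_eq, List.all_eq_true, List.mem_range,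
      Bool.not_eq_true', Bool.and_eq_false_imp, Bool.and_eq_true, List.contains_iff_mem] at hn
    rcases hn with (h7 | h7) | hn
    · exact absurd (by rw [← code_pow, ← hord, pow_orderOf_eq_one, code_one]) h7
    · rw [← code_one] at h7
      rw [code_injective h7, orderOf_one] at hord
      omega
    · have hfix : ∀ i : Fin 8, dig (code xp) (h i).val = (h (sevenCycle i)).val := fun i => by
        rw [dig_code]; simp [hxp]
      have hd1 : dig (code xp) (h 0).val = (h 1).val :=
        (hfix 0).trans (by rw [show sevenCycle 0 = 1 by decide])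
      have hd2 : dig (code xp) (h 1).val = (h 2).val :=
        (hfix 1).trans (by rw [show sevenCycle 1 = 2 by decide])
      have hd3 : dig (code xp) (h 2).val = (h 3).val :=
        (hfix 2).trans (by rw [show sevenCycle 2 = 3 by decide])
      have hd4 : dig (code xp) (h 3).val = (h 4).val :=
        (hfix 3).trans (by rw [show sevenCycle 3 = 4 by decide])
      have hd5 : dig (code xp) (h 4).val = (h 5).val :=
        (hfix 4).trans (by rw [show sevenCycle 4 = 5 by decide])
      have hd6 : dig (code xp) (h 5).val = (h 6).val :=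
        (hfix 5).trans (by rw [show sevenCycle 5 = 6 by decide])
      have hd7 : dig (code xp) (h 7).val = (h 7).val :=
        (hfix 7).trans (by rw [show sevenCycle 7 = 7 by decide])
      have hcand : cand7 (code xp) (h 0).val (h 7).val = code h := by
        simp only [cand7, hd1, hd2, hd3, hd4, hd5, hd6]
        rfl
      rcases hn (h 0).val (h 0).isLt (h 7).val (h 7).isLt with h' | h'
      · rw [hcand] at h'
        have := h' ⟨hd7, isPermCode_code h⟩
        rw [evenCode_code h (hH.sign hh)] at this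
        exact absurd this (by simp)
      · rw [hcand] at h'
        exact hrange _ h' h rfl
  have hle : f.range ≤ H := by
    rintro _ ⟨g, rfl⟩
    exact sevenGen_le H (hφM g)
  exact Or.inr (Or.inr (Or.inr ⟨((MonoidHom.ofInjective hf).trans
    (MulEquiv.subgroupCongr (le_antisymm hle hHle))).symm⟩))

end CfsgLib.KnownSimple.AEight
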