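import Cfsg.Agent.Lib.KnownSimple.AEight.FiveStar
import Cfsg.Agent.Lib.KnownSimple.AEight.FiveCore
import Cfsg.Agent.Lib.KnownSimple.AEight.SevenGL

/-!
Subgroups of `Alt 8` with trivial cores.
-/

set_option autoImplicit false

namespace CfsgLib.KnownSimple.AEight

open Equiv Equiv.Perm

local notation "S8" => Equiv.Perm (Fin 8)

theorem isListed_of_conj {H : Subgroup S8} (g : S8)
    (h : IsListed (H.map (MulAut.conj g).toMonoidHom)) : IsListed H :=
  h.congr (H.equivMapOfInjective _ (MulAut.conj g).injective)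

theorem exists_mem_orderOf {H : Subgroup S8} {p : ℕ} [Fact p.Prime] (h : p ∣ Nat.card H) :
    ∃ σ ∈ H, orderOf σ = p := by
  obtain ⟨x, hx⟩ := exists_prime_orderOf_dvd_card' p h
  exact ⟨x, x.2, (Subgroup.orderOf_coe x).trans hx⟩

theorem Good.isListed {H : Subgroup S8} (hH : Good H) : IsListed H := by
  have : Fact (Nat.Prime 5) := ⟨by norm_num⟩
  have : Fact (Nat.Prime 7) := ⟨by norm_num⟩
  by_cases h5 : ∃ σ ∈ H, orderOf σ = 5
  · obtain ⟨σ, hσ, ho⟩ := h5
    obtain ⟨g, hg⟩ := exists_conj_of_isConj hσ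
      (isConj_of_orderOf (by norm_num) le_rfl ho orderOf_fiveCycle)
    refine isListed_of_conj g ?_
    rcases five_dichotomy (hH.map_conj g) hg with h | ⟨j, hj, hp, hall⟩
    · exact star_case (hH.map_conj g) hg h
    · exact core_case (hH.map_conj g) hg hj hp hall
  · rcases hH.five_or_seven_dvd with h | h
    · exact absurd (exists_mem_orderOf h) h5
    · obtain ⟨σ, hσ, ho⟩ := exists_mem_orderOf h
      obtain ⟨g, hg⟩ := exists_conj_of_isConj hσ
        (isConj_of_orderOf (by norm_num) (by norm_num) ho orderOf_sevenCycle)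
      have h5' : ∀ τ ∈ H.map (MulAut.conj g).toMonoidHom, orderOf τ ≠ 5 := by
        rintro _ ⟨τ, hτ, rfl⟩ ht
        exact h5 ⟨τ, hτ, by
          rwa [orderOf_injective (MulAut.conj g).toMonoidHom (MulAut.conj g).injective τ] at ht⟩
      refine isListed_of_conj g ?_
      obtain ⟨j, hj, hp, hall⟩ := seven_core (hH.map_conj g) hg h5'
      exact gl_case (hH.map_conj g) hg hj hp hall

end CfsgLib.KnownSimple.AEight
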