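import Cfsg.Agent.Lib.KnownSimple.AEight.Five
import Cfsg.Agent.Lib.KnownSimple.AEight.Check7b

/-!
Subgroups of `Alt 8` with elements of order seven and none of order five.
-/

set_option autoImplicit false

namespace CfsgLib.KnownSimple.AEight

open Equiv Equiv.Perm

local notation "S8" => Equiv.Perm (Fin 8)

/-- The standard seven-cycle. -/
def sevenCycle : Equiv.Perm (Fin 8) := List.formPerm [0, 1, 2, 3, 4, 5, 6]

theorem code_sevenCycle : code sevenCycle = cx7 := by decide +kernel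

theorem orderOf_sevenCycle : orderOf sevenCycle = 7 := by
  have : Fact (Nat.Prime 7) := ⟨by norm_num⟩
  refine orderOf_eq_prime ?_ ?_ <;> decide +kernel

theorem perm7_spec {y : ℕ} (hy : y ∈ y7.flatten) :
    (∃ τ : S8, code τ = y) ∧ cpow y 7 = cone ∧ y ≠ cone := by
  have h := List.all_eq_true.1 perm7_ok y hy
  simp only [Bool.and_eq_true, beq_iff_eq, bne_iff_ne, Nat.blt_eq] at h
  exact ⟨exists_code h.1.1.1 h.1.1.2, h.1.2, h.2⟩

theorem orderOf_of_mem_y7 {τ : S8} (hτ : code τ ∈ y7.flatten) : orderOf τ = 7 := by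
  have : Fact (Nat.Prime 7) := ⟨by norm_num⟩
  obtain ⟨-, h7, h1⟩ := perm7_spec hτ
  refine orderOf_eq_prime (code_injective (by rw [code_pow, h7, code_one])) ?_
  rintro rfl
  exact h1 code_one

theorem std7 {σ : S8} (hσ : orderOf σ = 7) : σ ∈ Std y7 := by
  have hy : ∀ y ∈ y7.flatten, cpow y 7 = cone ∧ y ≠ cone := fun y hy => (perm7_spec hy).2
  have hperm : ∀ y ∈ y7.flatten, ∃ τ : S8, code τ = y := fun y hy => (perm7_spec hy).1
  have hcode : code (Equiv.swap (0 : Fin 8) 1) = cswap ∧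
      code (Equiv.swap (0 : Fin 8) 1)⁻¹ = cswap ∧ code (finRotate 8) = crot ∧
      code (finRotate 8)⁻¹ = crotInv := by decide +kernel
  have hclose : ∀ τ : S8, code τ ∈ y7.flatten →
      (∃ k e, code (Equiv.swap (0 : Fin 8) 1 * τ * (Equiv.swap 0 1)⁻¹) = cpow (look2 y7 k) e) ∧
      ∃ k e, code (finRotate 8 * τ * (finRotate 8)⁻¹) = cpow (look2 y7 k) e := by
    intro τ hτ
    obtain ⟨r, hr⟩ := all2_spec' close7_ok _ hτ
    simp only [closeCheck7, cconj, Bool.and_eq_true, beq_iff_eq] at hr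
    obtain ⟨⟨⟨⟨⟨⟨⟨⟨h1, h2⟩, -⟩, -⟩, -⟩, -⟩, -⟩, -⟩, -⟩ := hr
    refine ⟨⟨r.1, r.2.1, ?_⟩, ⟨r.2.2.1, r.2.2.2, ?_⟩⟩
    · rw [code_conj, hcode.1, hcode.2.1, h1]
    · rw [code_conj, hcode.2.2.1, hcode.2.2.2, h2]
  have hx : sevenCycle ∈ Std y7 := by
    have h := x7Idx_ok
    simp only [Bool.and_eq_true, beq_iff_eq, ← code_sevenCycle] at h
    have hne : sevenCycle ≠ 1 := fun e => by simpa [e] using orderOf_sevenCycle
    rcases look2_mem y7 x7Idx.1 with hk | hk
    · obtain ⟨τ, hτ⟩ := hperm _ hk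
      rw [← hτ, ← code_pow] at h
      exact ⟨τ, hτ ▸ hk, zpowers_eq_of_pow (n := 7) (by norm_num)
        (code_injective (by rw [code_pow, hτ, (hy _ hk).1, code_one])) (code_injective h.1).symm hne⟩
    · rw [hk, ← code_one, ← code_pow, one_pow] at h
      exact absurd (code_injective h.1).symm hne
  obtain ⟨g, hg⟩ := isConj_iff.1
    (isConj_of_orderOf (by norm_num) (by norm_num) orderOf_sevenCycle hσ)
  rw [← hg]
  exact std_conj (std_closed (by norm_num) hy _ (fun τ h => (hclose τ h).1) hperm)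
    (std_closed (by norm_num) hy _ (fun τ h => (hclose τ h).2) hperm) g _ hx

/-- The subgroup generated by the elements of order seven. -/
def sevenGen (H : Subgroup (Equiv.Perm (Fin 8))) : Subgroup (Equiv.Perm (Fin 8)) :=
  Subgroup.closure {σ | σ ∈ H ∧ orderOf σ = 7}

theorem sevenGen_le (H : Subgroup S8) : sevenGen H ≤ H := (Subgroup.closure_le H).2 fun _ h => h.1

theorem mem_sevenGen {H : Subgroup S8} {σ : S8} (hσ : σ ∈ H) (h : orderOf σ = 7) :
    σ ∈ sevenGen H :=
  Subgroup.subset_closure ⟨hσ, h⟩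

theorem conj_mem_sevenGen {H : Subgroup S8} {h m : S8} (hh : h ∈ H) (hm : m ∈ sevenGen H) :
    h * m * h⁻¹ ∈ sevenGen H := by
  induction hm using Subgroup.closure_induction with
  | mem x hx =>
    refine mem_sevenGen (H.mul_mem (H.mul_mem hh hx.1) (H.inv_mem hh)) ?_
    exact (orderOf_injective (MulAut.conj h).toMonoidHom (MulAut.conj h).injective x).trans hx.2
  | one => simp
  | mul x y _ _ hx hy =>
    have := (sevenGen H).mul_mem hx hy
    simpa [mul_assoc] using this
  | inv x _ hx => simpa [mul_assoc] using (sevenGen H).inv_mem hx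

theorem exists_coded_seven {H : Subgroup S8} {σ : S8} (hσ : σ ∈ H) (h : orderOf σ = 7) :
    ∃ τ ∈ H, code τ ∈ y7.flatten ∧ orderOf τ = 7 ∧ σ ∈ Subgroup.zpowers τ := by
  obtain ⟨τ, hτ, hz⟩ := std7 h
  refine ⟨τ, ?_, hτ, orderOf_of_mem_y7 hτ, hz ▸ Subgroup.mem_zpowers σ⟩
  exact Subgroup.zpowers_le.2 hσ (hz.symm ▸ Subgroup.mem_zpowers τ)

theorem no_five {H : Subgroup S8} (h5 : ∀ σ ∈ H, orderOf σ ≠ 5) {c : ℕ}
    (hc : CodeIn (sevenGen H) c) : isFive c = false := by
  rw [Bool.eq_false_iff]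
  intro h
  obtain ⟨σ, hσ, hσ'⟩ := exists_order_five hc h
  exact h5 σ (sevenGen_le H hσ) hσ'

theorem no_four {H : Subgroup S8} (hH : Good H) (hx : sevenCycle ∈ H)
    (h5 : ∀ σ ∈ H, orderOf σ ≠ 5) {j : ℕ} (hj : j ≤ 1)
    (hv : ∀ c ∈ fourGens j, CodeIn (sevenGen H) c) : False := by
  classical
  have hj' : j ∈ [0, 1] := by interval_cases j <;> simp
  have h4 := List.all_eq_true.1 four_ok j hj'
  simp only [Bool.and_eq_true, List.all_eq_true, List.any_eq_true, beq_iff_eq,
    List.contains_iff_mem, List.mem_range] at h4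
  obtain ⟨⟨⟨⟨⟨hone, hgens⟩, hsq⟩, hmul⟩, -⟩, hgen⟩ := h4
  have hjj : j = 0 ∨ j = 1 := by omega
  have hget : ∀ i < 3, (fourGens j).getD i cone ∈ fourGens j := by
    have : ∀ j ∈ [0, 1], ∀ i < 3, (fourGens j).getD i cone ∈ fourGens j := by decide +kernel
    exact this j hj'
  let V : Subgroup S8 :=
    { carrier := {σ | code σ ∈ fourList j}
      one_mem' := by simpa [code_one] using hone
      mul_mem' := fun {a b} ha hb => by simpa [code_mul] using hmul _ ha _ hb
      inv_mem' := fun {a} ha => by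
        have h : a * a = 1 := code_injective (by rw [code_mul, code_one]; exact hsq _ ha)
        show code a⁻¹ ∈ fourList j
        rw [inv_eq_of_mul_eq_one_right h]
        exact ha }
  have hVmem : ∀ σ, σ ∈ V ↔ code σ ∈ fourList j := fun σ => Iff.rfl
  obtain ⟨v0, hv0, hv0'⟩ := hv _ (hget 0 (by norm_num))
  obtain ⟨v1, hv1, hv1'⟩ := hv _ (hget 1 (by norm_num))
  obtain ⟨v2, hv2, hv2'⟩ := hv _ (hget 2 (by norm_num))
  have hVcl : V ≤ Subgroup.closure {v0, v1, v2} := by
    intro σ hσ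
    obtain ⟨k, -, hk⟩ := hgen _ hσ
    rw [← hv0', ← hv1', ← hv2'] at hk
    have hm : ∀ (b : Prop) [Decidable b] (v : S8), v ∈ ({v0, v1, v2} : Set S8) →
        CodeIn (Subgroup.closure {v0, v1, v2}) (if b then code v else cone) := by
      intro b _ v hv
      by_cases hb : b
      · rw [if_pos hb]; exact ⟨v, Subgroup.subset_closure hv, rfl⟩
      · rw [if_neg hb]; exact codeIn_one _
    have := codeIn_mul (codeIn_mul (hm (k % 2 = 1) v0 (by simp)) (hm (k / 2 % 2 = 1) v1 (by simp)))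
      (hm (k / 4 % 2 = 1) v2 (by simp))
    rw [← hk] at this
    exact codeIn_code this
  have hVM : V ≤ sevenGen H := hVcl.trans ((Subgroup.closure_le _).2 (by
    rintro _ (rfl | rfl | rfl) <;> assumption))
  have hgensV : ∀ τ ∈ H, code τ ∈ y7.flatten →
      ∀ v ∈ ({v0, v1, v2} : Set S8), τ * v * τ⁻¹ ∈ V := by
    intro τ hτ hY
    have hord := orderOf_of_mem_y7 hY
    have ht : ∃ t, fourCheck j (code τ) t = true := by
      rcases hjj with e | e <;> rw [e]
      · exact all2_spec' fourTrip0_ok _ hY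
      · exact all2_spec' fourTrip1_ok _ hY
    obtain ⟨t, ht⟩ := ht
    simp only [fourCheck, Bool.or_eq_true, Bool.and_eq_true, beq_iff_eq, List.all_eq_true,
      List.contains_iff_mem] at ht
    rcases ht with ⟨-, ht⟩ | ⟨-, ht⟩
    · have hinv : τ ^ 6 = τ⁻¹ := eq_inv_of_mul_eq_one_left (by
        rw [← pow_succ, show 6 + 1 = orderOf τ by rw [hord], pow_orderOf_eq_one])
      have key : ∀ v : S8, code v ∈ fourGens j → τ * v * τ⁻¹ ∈ V := by
        intro v hv
        rw [hVmem, code_mul, code_mul, ← hinv, code_pow]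
        exact ht _ hv
      rintro v (rfl | rfl | rfl)
      · exact key _ (hv0' ▸ hget 0 (by norm_num))
      · exact key _ (hv1' ▸ hget 1 (by norm_num))
      · exact key _ (hv2' ▸ hget 2 (by norm_num))
    · refine absurd ht ?_
      rw [Bool.not_eq_true]
      refine no_five h5 (codeIn_evalW (fun g hg => ?_) _ _)
      simp only [List.mem_cons, List.mem_append, List.not_mem_nil, or_false] at hg
      rcases hg with rfl | hg | rfl
      · exact ⟨sevenCycle, mem_sevenGen hx orderOf_sevenCycle, code_sevenCycle⟩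
      · exact hv g hg
      · exact ⟨τ, mem_sevenGen hτ hord, rfl⟩
  have hxV : ∀ x ∈ H, orderOf x = 7 → ∀ v ∈ V, x * v * x⁻¹ ∈ V := by
    intro x hxH hxo
    obtain ⟨τ, hτ, hY, hord, hz⟩ := exists_coded_seven hxH hxo
    obtain ⟨n, rfl⟩ := (isOfFinOrder_of_finite τ).mem_powers_iff_mem_zpowers.2 hz
    induction n with
    | zero => simp at hxo
    | succ n ih =>
      have hτV : ∀ v ∈ V, τ * v * τ⁻¹ ∈ V := fun v hv =>
        ((Subgroup.closure_le (V.comap (MulAut.conj τ).toMonoidHom)).2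
          fun v hv => hgensV τ hτ hY v hv) (hVcl hv)
      have hpow : ∀ n : ℕ, ∀ v ∈ V, τ ^ n * v * (τ ^ n)⁻¹ ∈ V := by
        intro n
        induction n with
        | zero => simp
        | succ n ih =>
          intro v hv
          have := hτV _ (ih v hv)
          simpa [pow_succ', mul_assoc] using this
      exact hpow (n + 1)
  have hnorm : ∀ m ∈ sevenGen H, ∀ v ∈ V, m * v * m⁻¹ ∈ V := by
    intro m hm
    induction hm using Subgroup.closure_induction_left with
    | one => simp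
    | mul_left x hx' y _ ih =>
      intro v hv'
      have := hxV x hx'.1 hx'.2 _ (ih v hv')
      simpa [mul_assoc] using this
    | inv_mul_cancel x hx' y _ ih =>
      intro v hv'
      have := hxV x⁻¹ (H.inv_mem hx'.1) ((orderOf_inv x).trans hx'.2) _ (ih v hv')
      simpa [mul_assoc] using this
  let K : Subgroup H := (sevenGen H).subgroupOf H
  have hKn : K.Normal := ⟨fun n hn g => conj_mem_sevenGen g.2 hn⟩
  have hK : Cfsg.pCore 2 K = ⊥ := CfsgLib.PCore.pCore_eq_bot_of_normal K (by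
    exact hH.core 2 Nat.prime_two _ (inferInstance) CfsgLib.PCore.pCore_isPGroup)
  let W : Subgroup K := (V.subgroupOf H).subgroupOf K
  have hWn : W.Normal := ⟨fun n hn g => hnorm _ g.2 _ hn⟩
  have hWp : IsPGroup 2 W := fun w => ⟨1, by
    have h : ((w : K) : H).1 * ((w : K) : H).1 = 1 :=
      code_injective (by rw [code_mul, code_one]; exact hsq _ w.2)
    apply Subtype.ext; apply Subtype.ext; apply Subtype.ext
    simpa [pow_two] using h⟩
  have hWb : W = ⊥ := eq_bot_iff.2 (hK ▸ CfsgLib.PCore.le_pCore hWn hWp)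
  have hv0V : v0 ∈ V := by
    rw [hVmem, hv0']
    exact hgens _ (hget 0 (by norm_num))
  have hmem : (⟨⟨v0, sevenGen_le H hv0⟩, hv0⟩ : K) ∈ W := hv0V
  rw [hWb, Subgroup.mem_bot] at hmem
  have h1 : v0 = 1 := congrArg (fun x : K => ((x : H) : S8)) hmem
  rw [h1, code_one] at hv0'
  have : ∀ j ∈ [0, 1], cone ≠ (fourGens j).getD 0 cone := by decide +kernel
  exact this j hj' hv0'

theorem seven_core {H : Subgroup S8} (hH : Good H) (hx : sevenCycle ∈ H)
    (h5 : ∀ σ ∈ H, orderOf σ ≠ 5) :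
    ∃ j, j ≤ 2 ∧ CodeIn (sevenGen H) (partner7 j) ∧
      ∀ τ ∈ H, code τ ∈ y7.flatten → code τ ∈ coreList j := by
  have hxg : CodeIn (sevenGen H) cx7 :=
    ⟨sevenCycle, mem_sevenGen hx orderOf_sevenCycle, code_sevenCycle⟩
  obtain ⟨τ, hτH, hτY, hτx⟩ : ∃ τ ∈ H, code τ ∈ y7.flatten ∧ τ ∉ Subgroup.zpowers sevenCycle := by
    by_contra hno
    push Not at hno
    have hle : sevenGen H ≤ Subgroup.zpowers sevenCycle := by
      refine (Subgroup.closure_le _).2 fun σ hσ => ?_
      obtain ⟨τ, hτH, hτY, -, hm⟩ := exists_coded_seven hσ.1 hσ.2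
      exact Subgroup.zpowers_le.2 (hno τ hτH hτY) hm
    have hp : IsPGroup 7 ((sevenGen H).subgroupOf H) := by
      refine IsPGroup.comap_of_injective (IsPGroup.to_le ?_ hle) H.subtype H.subtype_injective
      exact IsPGroup.of_card (n := 1) (by rw [Nat.card_zpowers, orderOf_sevenCycle]; norm_num)
    have hb := hH.core 7 (by norm_num) ((sevenGen H).subgroupOf H)
      ⟨fun n hn g => conj_mem_sevenGen g.2 hn⟩ hp
    have h1 : (⟨sevenCycle, hx⟩ : H) ∈ (sevenGen H).subgroupOf H :=
      mem_sevenGen hx orderOf_sevenCycle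
    rw [hb, Subgroup.mem_bot] at h1
    have := orderOf_sevenCycle
    rw [show sevenCycle = 1 from congrArg Subtype.val h1, orderOf_one] at this
    omega
  obtain ⟨r, hr⟩ := all2_spec' pair7_ok _ hτY
  have hw : ∀ w, CodeIn (sevenGen H) (evalW [cx7, code τ] 16 w) := fun w => codeIn_evalW
    (by
      intro g hg
      simp only [List.mem_cons, List.not_mem_nil, or_false] at hg
      rcases hg with rfl | rfl
      · exact hxg
      · exact ⟨τ, mem_sevenGen hτH (orderOf_of_mem_y7 hτY), rfl⟩) 16 w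
  simp only [pairCheck7, Bool.or_eq_true, Bool.and_eq_true, beq_iff_eq, Nat.ble_eq] at hr
  rcases hr with ((⟨-, hp⟩ | ⟨-, h⟩) | ⟨⟨-, hj⟩, hp⟩) | ⟨⟨-, hj⟩, hp⟩
  · refine absurd ?_ hτx
    rw [← code_sevenCycle, ← code_pow] at hp
    rw [code_injective hp]
    exact Subgroup.npow_mem_zpowers _ _
  · rw [no_five h5 (hw _)] at h
    exact absurd h (by simp)
  · refine ⟨r.2.1, hj, hp ▸ hw _, fun z hzH hzY => ?_⟩
    have hw3 : ∀ w, CodeIn (sevenGen H) (evalW [cx7, partner7 r.2.1, code z] 16 w) :=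
      fun w => codeIn_evalW
      (by
        intro g hg
        simp only [List.mem_cons, List.not_mem_nil, or_false] at hg
        rcases hg with rfl | rfl | rfl
        · exact hxg
        · exact hp ▸ hw _
        · exact ⟨z, mem_sevenGen hzH (orderOf_of_mem_y7 hzY), rfl⟩) 16 w
    have htrip : ∀ j, j ≤ 2 → ∃ t, tripCheck7 j (code z) t = true := by
      intro j hj
      interval_cases j
      · exact all2_spec' trip7_0_ok _ hzY
      · exact all2_spec' trip7_1_ok _ hzY
      · exact all2_spec' trip7_2_ok _ hzY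
    obtain ⟨t, ht⟩ := htrip _ hj
    simp only [tripCheck7, Bool.or_eq_true, Bool.and_eq_true, beq_iff_eq, Nat.ble_eq,
      List.contains_iff_mem] at ht
    rcases ht with (⟨-, h⟩ | ⟨-, h⟩) | ⟨⟨-, hj4⟩, h⟩
    · exact h
    · rw [no_five h5 (hw3 _)] at h
      exact absurd h (by simp)
    · refine (no_four hH hx h5 hj4 fun c hc => ?_).elim
      rw [← h] at hc
      simp only [List.mem_cons, List.not_mem_nil, or_false] at hc
      rcases hc with rfl | rfl | rfl <;> exact hw3 _
  · refine (no_four hH hx h5 hj fun c hc => ?_).elim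
    rw [← hp] at hc
    simp only [List.mem_cons, List.not_mem_nil, or_false] at hc
    rcases hc with rfl | rfl | rfl <;> exact hw _

end CfsgLib.KnownSimple.AEight
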